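import Cfsg.Agent.Lib.CharsMore.InertiaAbelian
import Cfsg.Agent.Lib.CharsMore.CoherenceBasic
import Cfsg.Agent.Lib.FT.InducedExpansion
import Mathlib.GroupTheory.Perm.Cycle.Type

/-!
# Character facts for the study of the maximal subgroups of Type I (Peterfalvi, section 12)

Characters over a normal subgroup `H`: vanishing at fixed point free elements, constancy on cosets,
and an inequality of Cauchy and Schwarz.
-/

set_option autoImplicit false
set_option linter.style.haveILetI false
set_option linter.unusedSectionVars false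

namespace CfsgLib.FT.TypeOne

open _root_.Subgroup Cfsg CfsgLib.Chars CfsgLib.CharsMore
open scoped ComplexConjugate

universe u

variable {L : Type u} [Group L] [Fintype L] {H : Subgroup L} [H.Normal] [Fintype H]

/-- An irreducible character without `H` in its kernel vanishes where `H` acts freely. -/
theorem irr_apply_eq_zero_of_fpf {χ : L → ℂ} (hχ : IsIrrCharacter L χ)
    (h0 : classInner (fun n : H => χ n) (fun _ => 1) = 0) {a : L}
    (ha : ∀ h ∈ H, a * h = h * a → h = 1) : χ a = 0 := by
  classical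
  obtain ⟨n, ρ, hρ, rfl⟩ := hχ
  haveI := hρ
  set f : L → ℂ := fun g => if g ∈ H then 1 else 0 with hf
  have hfc : IsClassFunction L f := fun x y => by
    have h : y * x * y⁻¹ ∈ H ↔ x ∈ H :=
      ⟨fun h => by simpa [mul_assoc] using (inferInstance : H.Normal).conj_mem _ h y⁻¹,
        fun h => (inferInstance : H.Normal).conj_mem x h y⟩
    simp only [hf, h]
  obtain ⟨c, hc, hcn⟩ := avgOp_eq_scalar ρ hfc
  have hsum : ∑ h : H, ρ.character h = 0 := by
    rw [inner_def, mul_eq_zero] at h0
    simpa using h0.resolve_left (inv_ne_zero (card_ne_zero H))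
  have hsub : ∀ F : L → ℂ, ∑ g : L, f g * F g = ∑ h : H, F h := fun F => by
    rw [← Finset.sum_filter_add_sum_filter_not Finset.univ (· ∈ H),
      Finset.sum_eq_zero (s := Finset.univ.filter (fun g => g ∉ H)) (fun g hg => by
        rw [hf]; simp [(Finset.mem_filter.mp hg).2]), add_zero,
      Finset.sum_subtype (Finset.univ.filter (· ∈ H)) (p := (· ∈ H)) (by simp)]
    exact Finset.sum_congr rfl fun h _ => by rw [hf]; simp
  have hc0 : c = 0 := by
    have hinner : classInner f ρ.character = 0 := by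
      have hs : ∑ g : L, f g * conj (ρ.character g) = 0 := by
        rw [hsub, ← map_sum, hsum, map_zero]
      rw [inner_def, hs, mul_zero]
    rw [hinner, mul_zero, mul_eq_zero] at hcn
    exact hcn.resolve_right (Nat.cast_ne_zero.mpr (Chars.finrank_pos_of_isIrreducible ρ).ne')
  have htr : ∑ h : H, ρ.character ((h : L)⁻¹ * a) = 0 := by
    have h1 := congrArg (fun T => LinearMap.trace ℂ (Fin n → ℂ) (T * ρ a)) hc
    simp only [avgOp, Finset.sum_mul, map_sum, smul_mul_assoc, map_smul, hc0, zero_smul, zero_mul,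
      map_zero, smul_eq_mul, ← map_mul] at h1
    exact (hsub fun g => ρ.character (g⁻¹ * a)).symm.trans h1
  let φ : H → H := fun h => ⟨h * a * (h : L)⁻¹ * a⁻¹, by
    have h1 := (inferInstance : H.Normal).conj_mem _ (H.inv_mem h.2) a
    simpa [mul_assoc] using H.mul_mem h.2 h1⟩
  have hinj : Function.Injective φ := by
    intro h₁ h₂ e
    have e' : (h₁ : L) * a * (h₁ : L)⁻¹ = (h₂ : L) * a * (h₂ : L)⁻¹ :=
      mul_right_cancel (congrArg Subtype.val e)
    refine Subtype.ext (inv_mul_eq_one.mp (ha _ (H.mul_mem (H.inv_mem h₁.2) h₂.2) ?_))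
    calc a * ((h₁ : L)⁻¹ * h₂) = (h₁ : L)⁻¹ * ((h₁ : L) * a * (h₁ : L)⁻¹) * h₂ := by group
      _ = (h₁ : L)⁻¹ * ((h₂ : L) * a * (h₂ : L)⁻¹) * h₂ := by rw [e']
      _ = (h₁ : L)⁻¹ * h₂ * a := by group
  have hconst : ∀ h : H, ρ.character ((h : L)⁻¹ * a) = ρ.character a := by
    intro h
    obtain ⟨k, hk⟩ := (Finite.injective_iff_surjective.mp hinj) h⁻¹
    have : (h : L)⁻¹ * a = (k : L) * a * (k : L)⁻¹ := by
      have := congrArg Subtype.val hk
      simp only [φ, InvMemClass.coe_inv] at this
      rw [← this]; group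
    rw [this]
    exact ρ.char_conj a k
  rw [Finset.sum_congr rfl fun h _ => hconst h, Finset.sum_const, Finset.card_univ, nsmul_eq_mul,
    mul_eq_zero] at htr
  exact htr.resolve_left (Nat.cast_ne_zero.mpr Fintype.card_ne_zero)

/-- Only the principal character is conjugate to it. -/
theorem inner_restrict_eq_zero_of_one {χ : L → ℂ} (hχ : IsIrrCharacter L χ)
    (h1 : classInner (fun n : H => χ n) (fun _ => 1) ≠ 0) {θ : H → ℂ} (hθ : IsIrrCharacter H θ)
    (hθ1 : θ ≠ fun _ => 1) : classInner (fun n : H => χ n) θ = 0 := by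
  by_contra h2
  obtain ⟨g, hg⟩ := restrict_constituents_conj H hχ isIrrCharacter_one hθ h1 h2
  exact hθ1 hg.symm

/-- A character with `H` in its kernel is constant on cosets of `H`. -/
theorem irr_mul_right_of_one {χ : L → ℂ} (hχ : IsIrrCharacter L χ)
    (h1 : classInner (fun n : H => χ n) (fun _ => 1) ≠ 0) (a : L) {y : L} (hy : y ∈ H) :
    χ (a * y) = χ a := by
  classical
  have hres := clifford H hχ isIrrCharacter_one h1
  have horb : orbitFn H (fun _ : H => (1 : ℂ)) = {fun _ => 1} := by
    ext φ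
    rw [mem_orbitFn, Finset.mem_singleton]
    exact ⟨fun ⟨g, hg⟩ => hg.symm, fun h => ⟨1, by rw [h]; exact conjFn_one H _⟩⟩
  rw [horb, Finset.sum_singleton] at hres
  have hker : χ y = χ 1 := by
    have e1 := congrFun hres ⟨y, hy⟩
    have e2 := congrFun hres 1
    simp only [Pi.smul_apply, OneMemClass.coe_one] at e1 e2
    rw [e1, e2]
  have hc := isCharacter_of_irr hχ
  have h2 := CharApps.char_mul_of_mem_ker hc hker a
  rw [show a * y = a * (y * a) * a⁻¹ by group, isClassFunction_of_isCharacter hc (y * a) a]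
  exact h2.1

/-- A class function with equal multiplicities on the constituents over each character of `H` is
constant on the cosets of `H` outside `H`. -/
theorem classFun_mul_right {ρ : L → ℂ} (hρ : IsClassFunction L ρ)
    (heq : ∀ θ : H → ℂ, IsIrrCharacter H θ → θ ≠ (fun _ => 1) → ∀ χ χ' : L → ℂ,
      IsIrrCharacter L χ → IsIrrCharacter L χ' → classInner (fun n : H => χ n) θ ≠ 0 →
      classInner (fun n : H => χ' n) θ ≠ 0 →
      classInner ρ χ = classInner ρ χ' ∧ χ 1 = χ' 1)
    {a : L} (ha : a ∉ H) {y : L} (hy : y ∈ H) : ρ (a * y) = ρ a := by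
  classical
  haveI := irrFintype L
  haveI := irrFintype H
  set Q : IrrCharacter L → Prop := fun χ =>
    classInner (fun n : H => (χ : L → ℂ) n) (fun _ => 1) ≠ 0 with hQ
  have key : ∀ b : L, b ∉ H →
      ∑ χ ∈ Finset.univ.filter (fun χ => ¬ Q χ), classInner ρ χ * (χ : L → ℂ) b = 0 := by
    intro b hb
    set T : Finset (IrrCharacter H) := Finset.univ.erase (Chars.principal H)
    have hdeg : ∀ χ : IrrCharacter L, ¬ Q χ → (χ : L → ℂ) 1 =
        ∑ θ ∈ T, classInner (fun n : H => (χ : L → ℂ) n) θ * (θ : H → ℂ) 1 := by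
      intro χ hχ
      have h := congrFun (classFun_eq_sum
        (isClassFunction_restrict H (isClassFunction_irr χ))) 1
      rw [Finset.sum_apply, ← Finset.sum_erase_add _ _ (Finset.mem_univ (Chars.principal H))] at h
      simp only [Pi.smul_apply, smul_eq_mul, OneMemClass.coe_one] at h
      rw [h, show classInner (fun n : H => (χ : L → ℂ) n) (Chars.principal H : H → ℂ) = 0 from
        not_not.mp hχ, zero_mul, add_zero]
    have hexp : ∀ χ ∈ Finset.univ.filter (fun χ => ¬ Q χ), classInner ρ χ * (χ : L → ℂ) b =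
        ∑ θ ∈ T, (θ : H → ℂ) 1 * (classInner (fun n : H => (χ : L → ℂ) n) θ *
          (classInner ρ χ / (χ : L → ℂ) 1 * (χ : L → ℂ) b)) := by
      intro χ hχ
      have hd := hdeg χ (Finset.mem_filter.mp hχ).2
      calc classInner ρ χ * (χ : L → ℂ) b
          = (χ : L → ℂ) 1 * (classInner ρ χ / (χ : L → ℂ) 1 * (χ : L → ℂ) b) := by
            rw [← mul_assoc, mul_div_cancel₀ _ (irr_degree_ne_zero χ.2)]
        _ = _ := by
            conv_lhs => arg 1; rw [hd]
            rw [Finset.sum_mul]
            exact Finset.sum_congr rfl fun θ _ => by ring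
    rw [Finset.sum_congr rfl hexp, Finset.sum_comm]
    refine Finset.sum_eq_zero fun θ hθ => ?_
    rw [← Finset.mul_sum]
    refine mul_eq_zero_of_right _ ?_
    have hθ1 : (θ : H → ℂ) ≠ fun _ => 1 := fun e => Finset.ne_of_mem_erase hθ (Subtype.ext e)
    rw [Finset.sum_subset (Finset.filter_subset _ _) fun χ _ hχ => by
      rw [inner_restrict_eq_zero_of_one χ.2 (by simpa [hQ] using hχ) θ.2 hθ1, zero_mul]]
    by_cases hex : ∃ χ₀ : IrrCharacter L, classInner (fun n : H => (χ₀ : L → ℂ) n) θ ≠ 0
    · obtain ⟨χ₀, h₀⟩ := hex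
      have hterm : ∀ χ : IrrCharacter L, classInner (fun n : H => (χ : L → ℂ) n) θ *
          (classInner ρ χ / (χ : L → ℂ) 1 * (χ : L → ℂ) b) =
          classInner ρ χ₀ / (χ₀ : L → ℂ) 1 * (classInner (indFun H (θ : H → ℂ)) χ * (χ : L → ℂ) b) := by
        intro χ
        rw [inner_indFun H (θ : H → ℂ) (isClassFunction_irr χ)]
        by_cases hz : classInner (fun n : H => (χ : L → ℂ) n) θ = 0
        · rw [hz, show classInner (θ : H → ℂ) (fun n : H => (χ : L → ℂ) n) = 0 by
            rw [← Chars.inner_conj, hz, map_zero]]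
          ring
        · obtain ⟨e1, e2⟩ := heq θ θ.2 hθ1 χ χ₀ χ.2 χ₀.2 hz h₀
          obtain ⟨k, hk⟩ := inner_char_nat (isCharacter_restrict H (isCharacter_of_irr χ.2))
            (isCharacter_of_irr θ.2)
          rw [e1, e2, ← Chars.inner_conj (fun n : H => (χ : L → ℂ) n), hk, map_natCast]
          ring
      rw [Finset.sum_congr rfl fun χ _ => hterm χ, ← Finset.mul_sum]
      refine mul_eq_zero_of_right _ ?_
      have h := congrFun (classFun_eq_sum (isClassFunction_indFun H (θ : H → ℂ))) b
      rw [indFun_eq_zero_of_notMem H _ hb, Finset.sum_apply] at h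
      simpa only [Pi.smul_apply, smul_eq_mul] using h.symm
    · push Not at hex
      exact Finset.sum_eq_zero fun χ _ => by rw [hex χ, zero_mul]
  have hval : ∀ b : L, b ∉ H →
      ρ b = ∑ χ ∈ Finset.univ.filter Q, classInner ρ χ * (χ : L → ℂ) b := by
    intro b hb
    have h := congrFun (classFun_eq_sum hρ) b
    rw [Finset.sum_apply] at h
    simp only [Pi.smul_apply, smul_eq_mul] at h
    rw [h, ← Finset.sum_filter_add_sum_filter_not Finset.univ Q, key b hb, add_zero]
  rw [hval _ (fun h => ha (by simpa using H.mul_mem h (H.inv_mem hy))), hval _ ha]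
  exact Finset.sum_congr rfl fun χ hχ => by
    rw [irr_mul_right_of_one χ.2 (Finset.mem_filter.mp hχ).2 a hy]

/-- With an abelian inertia quotient the constituents over a character have one degree. -/
theorem constituent_degree_eq {θ : H → ℂ} (hθ : IsIrrCharacter H θ)
    (hab : ∀ x ∈ inertia H θ, ∀ y ∈ inertia H θ, x * y * x⁻¹ * y⁻¹ ∈ H)
    {χ χ' : L → ℂ} (hχ : IsIrrCharacter L χ) (hχ' : IsIrrCharacter L χ')
    (h : classInner (fun n : H => χ n) θ ≠ 0) (h' : classInner (fun n : H => χ' n) θ ≠ 0) :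
    χ 1 = χ' 1 := by
  classical
  haveI := Fintype.ofFinite (inertia H θ)
  obtain ⟨e, C, -, hC, hsum, -, hdeg, -⟩ := indFun_inertia_abelian H θ hθ (inertia H θ) rfl hab
  have key : ∀ ψ : L → ℂ, IsIrrCharacter L ψ → classInner (fun n : H => ψ n) θ ≠ 0 → ψ ∈ C := by
    intro ψ hψ hne
    by_contra hnm
    have h0 : classInner (indFun H θ) ψ = 0 := by
      rw [hsum, Chars.inner_smul_left, Chars.inner_sum_left, Finset.sum_eq_zero, mul_zero]
      intro φ hφ
      rw [inner_irr_of_isIrr (hC φ hφ) hψ, if_neg]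
      intro e'
      exact hnm (e' ▸ hφ)
    rw [inner_indFun H θ (isClassFunction_of_isCharacter (isCharacter_of_irr hψ)),
      ← Chars.inner_conj, map_eq_zero] at h0
    exact hne h0
  rw [hdeg χ (key χ hχ h), hdeg χ' (key χ' hχ' h')]

omit [H.Normal] [Fintype H] in
/-- The inequality of Cauchy and Schwarz for a real inner product. -/
theorem sq_le_inner_mul_inner {ρ α : L → ℂ} {c : ℝ} (h : classInner ρ α = (c : ℂ)) :
    c ^ 2 ≤ (classInner ρ ρ).re * (classInner α α).re := by
  have hA : 0 ≤ (classInner α α).re := inner_self_re_nonneg α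
  have h' : classInner α ρ = (c : ℂ) := by rw [← Chars.inner_conj, h, Complex.conj_ofReal]
  have hexp : ∀ s t : ℝ, 0 ≤ s ^ 2 * (classInner ρ ρ).re - 2 * s * t * c +
      t ^ 2 * (classInner α α).re := by
    intro s t
    have h0 := inner_self_re_nonneg ((s : ℂ) • ρ - (t : ℂ) • α)
    simp only [Chars.inner_sub_left, Chars.inner_sub_right, Chars.inner_smul_left,
      Chars.inner_smul_right, Complex.conj_ofReal, h, h', Complex.sub_re, Complex.mul_re,
      Complex.mul_im, Complex.ofReal_re, Complex.ofReal_im] at h0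
    ring_nf at h0 ⊢
    linarith
  rcases hA.lt_or_eq with hpos | hzero
  · have h1 := hexp (classInner α α).re c
    nlinarith
  · have h1 := hexp c ((classInner ρ ρ).re + 1)
    rw [← hzero] at h1 ⊢
    nlinarith [sq_nonneg c, inner_self_re_nonneg ρ]

section Count

/-- A sum of an invariant function in characteristic `p` over a set permuted by a map of order `p`. -/
theorem sum_eq_sum_fixed {X : Type*} [Fintype X] [DecidableEq X] {k : Type*} [Field k] {p : ℕ}
    [CharP k p] [hp : Fact p.Prime] (σ : Equiv.Perm X) (hσ : σ ^ p = 1) (f : X → k)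
    (hf : ∀ x, f (σ x) = f x) :
    ∑ x, f x = ∑ x ∈ Finset.univ.filter (fun x => σ x = x), f x := by
  classical
  set S := Finset.univ.filter (fun x => σ x = x)
  have hmaps : ∀ x ∈ (Finset.univ : Finset X), f x ∈ Finset.univ.image f := fun x _ =>
    Finset.mem_image_of_mem f (Finset.mem_univ x)
  rw [← Finset.sum_fiberwise_of_maps_to hmaps f,
    ← Finset.sum_fiberwise_of_maps_to (s := S) (fun x hx => hmaps x (Finset.mem_univ x)) f]
  refine Finset.sum_congr rfl fun v _ => ?_
  rw [Finset.sum_congr rfl fun x hx => (Finset.mem_filter.mp hx).2,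
    Finset.sum_congr (rfl : S.filter _ = _) fun x hx => (Finset.mem_filter.mp hx).2,
    Finset.sum_const, Finset.sum_const, nsmul_eq_mul, nsmul_eq_mul]
  congr 1
  let τ : Equiv.Perm {x : X // f x = v} := σ.subtypePerm fun x => by rw [hf x]
  have hτ : τ ^ p ^ 1 = 1 := by
    rw [pow_one, Equiv.Perm.subtypePerm_pow]
    ext x
    simp [hσ]
  have hm := Equiv.Perm.card_compl_support_modEq hτ
  rw [CharP.natCast_eq_natCast k p]
  have h1 : (Finset.univ.filter fun x : X => f x = v).card = Fintype.card {x : X // f x = v} :=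
    (Fintype.card_subtype _).symm
  have h2 : (S.filter fun x => f x = v).card = τ.supportᶜ.card := by
    refine Finset.card_bij (fun x hx => ⟨x, (Finset.mem_filter.mp hx).2⟩) (fun x hx => ?_)
      (fun _ _ _ _ e => congrArg Subtype.val e) (fun x hx => ?_)
    · rw [Finset.mem_compl, Equiv.Perm.mem_support, not_not]
      exact Subtype.ext (Finset.mem_filter.mp (Finset.mem_filter.mp hx).1).2
    · rw [Finset.mem_compl, Equiv.Perm.mem_support, not_not] at hx
      exact ⟨x.1, Finset.mem_filter.mpr ⟨Finset.mem_filter.mpr ⟨Finset.mem_univ _,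
        congrArg Subtype.val hx⟩, x.2⟩, rfl⟩
  rw [h1, h2]
  exact hm.symm

end Count

end CfsgLib.FT.TypeOne
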