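import Cfsg.Agent.Lib.FT.InvDade
import Cfsg.Agent.Lib.FT.TypeOne.CharFacts
import Cfsg.Agent.Lib.BlockOrth.CharSpan

/-!
# Congruences modulo a prime for averages of class functions (Peterfalvi, section 12)
-/

set_option autoImplicit false
set_option linter.style.haveILetI false
set_option linter.unusedSectionVars false

namespace CfsgLib.FT.TypeOne

open _root_.Subgroup Cfsg CfsgLib.Chars CfsgLib.CharsMore CfsgLib.Blocks CfsgLib.BlockOrth
open scoped ComplexConjugate

universe u

variable {M : Ideal AlgInt} [M.IsPrime] {p : ℕ} [hp : Fact p.Prime]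

/-- Modulo `p` a sum of an invariant function reduces to the fixed points of a map of order `p`. -/
theorem memLocalIdeal_sum_sub_fixed (hpM : (p : AlgInt) ∈ M) {X : Type*} [Fintype X] [DecidableEq X]
    (σ : Equiv.Perm X) (hσ : σ ^ p = 1) (F : X → ℂ) (hF : ∀ x, F x ∈ loc M)
    (hinv : ∀ x, F (σ x) = F x) :
    MemLocalIdeal M ((∑ x, F x) - ∑ x ∈ Finset.univ.filter (fun x => σ x = x), F x) := by
  haveI := charP_residueField (M := M) hp.out hpM
  have h := sum_eq_sum_fixed (k := IsLocalRing.ResidueField (loc M)) (p := p) σ hσ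
    (fun x => red (M := M) ⟨F x, hF x⟩) fun x => congrArg (red (M := M)) (Subtype.ext (hinv x))
  rw [← map_sum, ← map_sum, ← sub_eq_zero, ← map_sub, red_eq_zero_iff] at h
  rwa [AddSubgroupClass.coe_sub, AddSubmonoidClass.coe_finsetSum,
    AddSubmonoidClass.coe_finsetSum] at h

variable {G : Type u} [Group G] [Fintype G]

/-- The values of a generalized character are local integers. -/
theorem gen_mem_loc {φ : G → ℂ} (hφ : IsGeneralizedCharacter G φ) (g : G) : φ g ∈ loc M := by
  obtain ⟨χ, ψ, ⟨n, ρ, rfl⟩, ⟨m, σ, rfl⟩, rfl⟩ := hφ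
  exact (loc M).sub_mem (isIntegral_mem_loc (isIntegral_character ρ g))
    (isIntegral_mem_loc (isIntegral_character σ g))

theorem memLocalIdeal_gen_sub (hpM : (p : AlgInt) ∈ M) {φ : G → ℂ}
    (hφ : IsGeneralizedCharacter G φ) (g : G) :
    MemLocalIdeal M (φ g - φ (pPrimePart p g)) := by
  obtain ⟨χ, ψ, hχ, hψ, rfl⟩ := hφ
  rw [Pi.sub_apply, Pi.sub_apply, show ∀ a b c d : ℂ, (a - b) - (c - d) = (a - c) - (b - d) from
    fun a b c d => by ring]
  exact MemLocalIdeal.sub' (memLocalIdeal_char_sub hpM hχ g) (memLocalIdeal_char_sub hpM hψ g)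

/-- The average of a generalized character over a coset centralised by its representative. -/
theorem invDade_mem_loc {A : Set G} {L : Subgroup G} {R : G → Subgroup G}
    (hD : DadeHypothesis A L R) {φ : G → ℂ} (hφ : IsGeneralizedCharacter G φ) (a : L) :
    invDade A L R φ a ∈ loc M := by
  by_cases ha : (a : G) ∈ A
  · haveI := Fintype.ofFinite (R (a : G))
    obtain ⟨χ, ψ, hχ, hψ, rfl⟩ := hφ
    have hs : ∀ u ∈ R (a : G), (a : G) * u = u * a := fun u hu =>
      (mem_centralizer_singleton_iff.mp (hD.le_centralizer _ ha hu)).symm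
    rw [invDade_of_mem ha, ← finsum_set_coe_eq_finsum_mem, finsum_eq_sum_of_fintype]
    simp only [SetLike.coe_sort_coe, Pi.sub_apply, Finset.sum_sub_distrib, mul_sub]
    exact (loc M).sub_mem (isIntegral_mem_loc (isIntegral_avg_coset hχ _ _ hs))
      (isIntegral_mem_loc (isIntegral_avg_coset hψ _ _ hs))
  · rw [invDade_of_notMem ha]
    exact (loc M).zero_mem

/-- Conjugation by an element as a permutation of a subgroup it normalises. -/
def conjPerm (P : Subgroup G) (a : G) (ha : a ∈ normalizer (P : Set G)) : Equiv.Perm P where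
  toFun u := ⟨a * u * a⁻¹, (mem_normalizer_iff.mp ha _).mp u.2⟩
  invFun u := ⟨a⁻¹ * u * a, (mem_normalizer_iff.mp ha _).mpr (by simp [mul_assoc])⟩
  left_inv u := Subtype.ext (by simp [mul_assoc])
  right_inv u := Subtype.ext (by simp [mul_assoc])

theorem conjPerm_pow (P : Subgroup G) (a : G) (ha : a ∈ normalizer (P : Set G)) (n : ℕ) (u : P) :
    (((conjPerm P a ha) ^ n) u : G) = a ^ n * u * (a ^ n)⁻¹ := by
  induction n generalizing u with
  | zero => simp
  | succ n ih =>
    rw [pow_succ, Equiv.Perm.mul_apply, ih, pow_succ, mul_inv_rev]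
    show a ^ n * (a * u * a⁻¹) * (a ^ n)⁻¹ = _
    group

theorem conjPerm_pow_eq_one (P : Subgroup G) {a : G} (ha : a ∈ normalizer (P : Set G))
    (hap : a ^ p = 1) : (conjPerm P a ha) ^ p = 1 := by
  ext u
  rw [conjPerm_pow, hap]
  simp

/-- An element of order `p` acting freely on `P`: the average over `y P` is congruent to the value
at `y`. -/
theorem memLocalIdeal_avg_sub (hpM : (p : AlgInt) ∈ M) (P : Subgroup G) {a y : G} (hap : a ^ p = 1)
    (haP : a ∈ normalizer (P : Set G)) (hay : a * y = y * a)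
    (hfix : ∀ u ∈ P, a * u = u * a → u = 1) {φ : G → ℂ} (hφ : IsClassFunction G φ)
    (hloc : ∀ g, φ g ∈ loc M) :
    MemLocalIdeal M ((Nat.card P : ℂ)⁻¹ * ∑ᶠ u ∈ (P : Set G), φ (y * u) - φ y) := by
  classical
  haveI := Fintype.ofFinite P
  set σ := conjPerm P a haP
  have hσ : σ ^ p = 1 := conjPerm_pow_eq_one P haP hap
  have hfil : Finset.univ.filter (fun u => σ u = u) = {(1 : P)} := by
    refine Finset.eq_singleton_iff_unique_mem.mpr ⟨by simp [σ, conjPerm, Subtype.ext_iff],
      fun u hu => ?_⟩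
    exact Subtype.ext (hfix u u.2
      (mul_inv_eq_iff_eq_mul.mp (congrArg Subtype.val (Finset.mem_filter.mp hu).2)))
  have h1 := memLocalIdeal_sum_sub_fixed hpM σ hσ (fun u => φ (y * u)) (fun u => hloc _) fun u => by
    show φ (y * (a * u * a⁻¹)) = φ (y * u)
    rw [← hφ (y * u) a]
    congr 1
    rw [← mul_assoc a y, hay]
    group
  have h2 := memLocalIdeal_sum_sub_fixed hpM σ hσ (fun _ => (1 : ℂ)) (fun _ => (loc M).one_mem)
    fun _ => rfl
  rw [hfil, Finset.sum_singleton] at h1 h2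
  rw [OneMemClass.coe_one, mul_one] at h1
  rw [Finset.sum_const, nsmul_one, Finset.card_univ, ← Nat.card_eq_fintype_card] at h2
  have hnp : ¬ p ∣ Nat.card P := fun hd => not_memLocalIdeal_one (M := M) (by
    have := MemLocalIdeal.sub' ((memLocalIdeal_natCast_iff (M := M) hp.out hpM _).mpr hd) h2
    rwa [sub_sub_cancel] at this)
  have h0 : (Nat.card P : ℂ) ≠ 0 := Nat.cast_ne_zero.mpr Nat.card_pos.ne'
  rw [← finsum_set_coe_eq_finsum_mem, finsum_eq_sum_of_fintype,
    show ∀ S : ℂ, (Nat.card P : ℂ)⁻¹ * S - φ y =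
      (Nat.card P : ℂ)⁻¹ * ((S - φ y) - φ y * ((Nat.card P : ℂ) - 1)) from fun S => by field_simp; ring]
  exact MemLocalIdeal.mul_left' (inv_natCast_mem_loc hp.out hpM hnp)
    (MemLocalIdeal.sub' h1 (MemLocalIdeal.mul_left' (hloc y) h2))

/-- The key congruence: an integer `|H|⁻¹ Σ F(h)(1 - λ̄(h))` is congruent to the value of `F` on
the points of `H` fixed by `a`. -/
theorem intCast_congr (hpM : (p : AlgInt) ∈ M) (H : Subgroup G) [Fintype H] {a : G}
    (hap : a ^ p = 1) (haH : a ∈ normalizer (H : Set G)) (hH : ¬ p ∣ Nat.card H) (F : H → ℂ)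
    (hF : ∀ h, F h ∈ loc M) (hFinv : ∀ h, F (conjPerm H a haH h) = F h) {f : ℤ}
    (hFf : ∀ h : H, h ≠ 1 → a * h = h * a → MemLocalIdeal M (F h - (f : ℂ)))
    (lam : H →* ℂˣ) (hlam : ∀ h, lam (conjPerm H a haH h) = lam h)
    (hne : ∃ h : H, a * h = h * a ∧ lam h ≠ 1) {c : ℤ}
    (hc : ∑ h : H, F h * (1 - conj (lam h : ℂ)) = (Nat.card H : ℂ) * (c : ℂ)) :
    (p : ℤ) ∣ c - f := by
  classical
  set σ := conjPerm H a haH
  have hσ : σ ^ p = 1 := conjPerm_pow_eq_one H haH hap
  set C := Finset.univ.filter (fun h => σ h = h) with hC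
  have hmem : ∀ h : H, h ∈ C ↔ a * h = h * a := fun h => by
    rw [hC, Finset.mem_filter, and_iff_right (Finset.mem_univ _)]
    exact Subtype.ext_iff.trans mul_inv_eq_iff_eq_mul
  have hlamI : ∀ h : H, conj (lam h : ℂ) ∈ loc M := by
    intro h
    refine isIntegral_mem_loc ?_
    refine IsIntegral.of_pow (orderOf_pos h) ?_
    rw [← map_pow, ← Units.val_pow_eq_pow_val, ← map_pow, pow_orderOf_eq_one, map_one, Units.val_one,
      map_one]
    exact isIntegral_one
  have hterm : ∀ h, F h * (1 - conj (lam h : ℂ)) ∈ loc M := fun h =>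
    (loc M).mul_mem (hF h) ((loc M).sub_mem (loc M).one_mem (hlamI h))
  have h1 := memLocalIdeal_sum_sub_fixed hpM σ hσ _ hterm fun h => by rw [hFinv, hlam]
  have h2 := memLocalIdeal_sum_sub_fixed hpM σ hσ (fun _ => (1 : ℂ)) (fun _ => (loc M).one_mem)
    fun _ => rfl
  rw [← hC, Finset.sum_const, Finset.sum_const, nsmul_one, nsmul_one, Finset.card_univ,
    ← Nat.card_eq_fintype_card] at h2
  rw [hc, ← hC] at h1
  have h3 : MemLocalIdeal M ((∑ h ∈ C, F h * (1 - conj (lam h : ℂ))) -
      (f : ℂ) * ∑ h ∈ C, (1 - conj (lam h : ℂ))) := by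
    rw [Finset.mul_sum, ← Finset.sum_sub_distrib]
    refine MemLocalIdeal.sum' fun h hh => ?_
    rw [← sub_mul]
    by_cases hh1 : h = 1
    · rw [hh1, map_one, Units.val_one, map_one, sub_self, mul_zero]
      exact MemLocalIdeal.zero'
    · exact MemLocalIdeal.mul_right' (hFf h hh1 ((hmem h).mp hh))
        ((loc M).sub_mem (loc M).one_mem (hlamI h))
  have hzero : ∑ h ∈ C, conj (lam h : ℂ) = 0 := by
    obtain ⟨h₀, hh₀, hl₀⟩ := hne
    have hclosed : ∀ u : H, h₀ * u ∈ C ↔ u ∈ C := by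
      intro u
      rw [hmem, hmem, Subgroup.coe_mul, ← mul_assoc, hh₀, mul_assoc, mul_assoc]
      exact mul_left_cancel_iff
    have hshift : ∑ h ∈ C, conj (lam h : ℂ) =
        conj (lam h₀ : ℂ) * ∑ h ∈ C, conj (lam h : ℂ) := by
      rw [Finset.mul_sum]
      refine (Finset.sum_equiv (Equiv.mulLeft h₀) (fun u => (hclosed u).symm) fun u _ => ?_).symm
      show _ = conj (lam (h₀ * u) : ℂ)
      rw [map_mul, Units.val_mul, map_mul]
    have h' : (1 - conj (lam h₀ : ℂ)) * ∑ h ∈ C, conj (lam h : ℂ) = 0 := by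
      linear_combination hshift
    refine (mul_eq_zero.mp h').resolve_left fun e => hl₀ (Units.ext ?_)
    have := congrArg conj (sub_eq_zero.mp e)
    rwa [map_one, Complex.conj_conj, eq_comm] at this
  rw [Finset.sum_sub_distrib, Finset.sum_const, nsmul_one, hzero, sub_zero] at h3
  have hfloc : (f : ℂ) ∈ loc M := intCast_mem _ f
  have h4 : MemLocalIdeal M ((Nat.card H : ℂ) * ((c - f : ℤ) : ℂ)) := by
    have := MemLocalIdeal.sub' (MemLocalIdeal.add' h1 h3) (MemLocalIdeal.mul_left' hfloc h2)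
    convert this using 1
    push_cast
    ring
  rcases MemLocalIdeal.mem_or_mem (natCast_mem_loc _) (intCast_mem _ _) h4 with h | h
  · exact absurd ((memLocalIdeal_natCast_iff (M := M) hp.out hpM _).mp h) hH
  · rw [← intCast_mem_iff (M := M) hp.out hpM, ← memLocalIdeal_algInt_iff]
    simpa using h

end CfsgLib.FT.TypeOne
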