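import Cfsg.Agent.Lib.FT.TypeOne.Main
import Cfsg.Agent.S1524

/-!
# The statements on maximal subgroups of Type I from the local analysis
-/

set_option autoImplicit false

namespace CfsgLib.FT

open Cfsg

universe u

theorem stmtS1524 : StmtS1524.{u} := @Cfsg.Agent.S1524.result

/-- Coherence for a Frobenius maximal subgroup of Type I from the local analysis. -/
theorem stmtS1542_of_local (F : LocalFacts8.{u}) : StmtS1542.{u} := stmtS1542_of F stmtS1524

/-- A maximal subgroup of Type I is a Frobenius group, from the local analysis. -/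
theorem stmtS1540_of_local (F : TypeOne.LocalFacts12.{u}) (h34 : TypeOne.NoSupportedTypeP1.{u}) :
    StmtS1540.{u} := TypeOne.stmtS1540_of F h34 (stmtS1542_of_local F.base)

/-- Not every maximal subgroup is of Type I, from the local analysis alone. -/
theorem stmtS1541_of_local (F : TypeOne.LocalFacts12.{u}) : StmtS1541.{u} := by
  intro G _ _ hG
  refine exists_not_typeI F.base hG fun hall M hM => ?_
  refine TypeOne.frobenius_of_typeI F (stmtS1542_of_local F.base) hG (fun N hN h => ?_) hM (hall M hM)
  obtain ⟨K, U, hKU⟩ := exists_decomposition F.base hG hN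
  obtain ⟨hK, hU⟩ := (F.base.s1380 hG N hN K U hKU).mp (hall N hN)
  rcases h with h | h | h
  · exact absurd hK ((F.base.s1382 hG N hN K U hKU).mp (Or.inl h)).1
  · exact absurd hK ((F.base.s1382 hG N hN K U hKU).mp (Or.inr h)).1
  · exact absurd hK ((F.s1383 hG N hN K U hKU).mp h).1

end CfsgLib.FT
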