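import Cfsg.Agent.Lib.FT.TypeOne.Orth
import Cfsg.Agent.Lib.FT.TypeOne.Congr
import Cfsg.Agent.Lib.Coprime.Action

/-!
# Every maximal subgroup of Type I is a Frobenius group (Peterfalvi, section 12)

Let `L` be a maximal subgroup of Type I that is not a Frobenius group, chosen with the least witness
prime `p`, and `M` the subgroup it supports, with `f = [M : M_F]`. The character `φ = ν ζ` of the
coherent family of `M` takes values congruent to `f` modulo `p` on `C(a) ∩ L_F`. Its multiplicity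
`c` on the image of `Ind (1 - λ)`, for an `a`-invariant linear character `λ` of `L_F`, is then
congruent to `f` modulo `p`, and the norm inequality gives `c² ≤ f`. Since `f < p` is odd and
divides `p² - 1`, this is absurd.
-/

set_option autoImplicit false
set_option linter.style.haveILetI false
set_option linter.unusedSectionVars false

namespace CfsgLib.FT.TypeOne

open _root_.Subgroup Cfsg CfsgLib.Chars CfsgLib.CharsMore CfsgLib.Blocks CfsgLib.BlockOrth
open scoped ComplexConjugate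

universe u

/-- The arithmetic at the end. -/
theorem numeric {f p : ℕ} {c : ℤ} (hf : Odd f) (hf1 : 1 < f) (hfp : f < p) (hp : Odd p)
    (hdiv : f ∣ p ^ 2 - 1) (hc : c ^ 2 ≤ (f : ℤ)) (hcong : (p : ℤ) ∣ c - f) : False := by
  obtain ⟨j, hj⟩ := hcong
  have hfp' : (f : ℤ) < p := by exact_mod_cast hfp
  have hf1' : (1 : ℤ) < f := by exact_mod_cast hf1
  have hc1 : c ≤ f := by nlinarith
  have hc2 : -(f : ℤ) ≤ c := by nlinarith
  have hj1 : j ≤ 0 := by nlinarith
  have hj2 : -1 ≤ j := by nlinarith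
  rcases (show j = 0 ∨ j = -1 by omega) with rfl | rfl
  · have : c = f := by linarith
    rw [this] at hc
    nlinarith
  · have hp1 : 1 ≤ p ^ 2 := Nat.one_le_pow _ _ (by omega)
    obtain ⟨k, hk⟩ := hdiv
    have hk' : (p : ℤ) ^ 2 - 1 = f * k := by
      have h : ((p ^ 2 - 1 : ℕ) : ℤ) = ((f * k : ℕ) : ℤ) := congrArg _ hk
      push_cast [hp1] at h
      exact h
    have hd : (f : ℤ) ∣ c ^ 2 - 1 := ⟨f - 2 * p + k, by
      rw [show c = (f : ℤ) - p by linarith]; linear_combination hk'⟩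
    have hc0 : c ^ 2 - 1 = 0 := by
      obtain ⟨m, hm⟩ := hd
      have hm1 : m ≤ 0 := by nlinarith
      have hm2 : 0 ≤ m := by nlinarith [sq_nonneg c]
      rw [hm, show m = 0 by omega, mul_zero]
    obtain ⟨i, hi⟩ := hf
    obtain ⟨l, hl⟩ := hp
    have hcc : c = 1 ∨ c = -1 := sq_eq_one_iff.mp (by linarith)
    omega

section Aux

variable {L : Type u} [Group L] [Fintype L] {H : Subgroup L} [H.Normal]

/-- A linear character fixed by `a`, not trivial at a given point fixed by `a` outside the derived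
subgroup. -/
theorem exists_invariant_hom {p : ℕ} [Fact p.Prime] {a : L} (hap : a ^ p = 1) {h : H}
    (hh : h ∉ commutator H) (hah : a * h = h * a) (hpH : ¬ p ∣ Nat.card H) :
    ∃ lam : H →* ℂˣ, (∀ n, lam (conjBy H a n) = lam n) ∧ lam h ≠ 1 := by
  haveI : NeZero (Monoid.exponent (Abelianization H) : ℂ) :=
    ⟨Nat.cast_ne_zero.mpr Monoid.exponent_ne_zero_of_finite⟩
  obtain ⟨φ, hφ⟩ := CommGroup.exists_apply_ne_one_of_hasEnoughRootsOfUnity (Abelianization H) ℂ
    (show Abelianization.of h ≠ 1 from fun e => hh ((QuotientGroup.eq_one_iff h).mp e))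
  set l₀ : H →* ℂˣ := φ.comp Abelianization.of
  refine ⟨∏ i ∈ Finset.range p, l₀.comp (conjBy H (a ^ i)), fun n => ?_, ?_⟩
  · rw [MonoidHom.finsetProd_apply, MonoidHom.finsetProd_apply]
    set g : ℕ → ℂˣ := fun i => l₀ (conjBy H (a ^ i) n) with hg
    have hs : ∀ i, (l₀.comp (conjBy H (a ^ i))) (conjBy H a n) = g (i + 1) := fun i => by
      simp only [hg, MonoidHom.comp_apply]
      congr 1
      refine Subtype.ext ?_
      show a ^ i * (a * n * a⁻¹) * (a ^ i)⁻¹ = a ^ (i + 1) * n * (a ^ (i + 1))⁻¹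
      rw [pow_succ]
      group
    rw [Finset.prod_congr rfl fun i _ => hs i]
    have h0 : g p = g 0 := by simp only [hg, hap, pow_zero]
    have h1 := Finset.prod_range_succ g p
    rw [Finset.prod_range_succ', h0] at h1
    exact mul_right_cancel h1
  · have hfix : ∀ i, conjBy H (a ^ i) h = h := fun i => Subtype.ext (by
      show a ^ i * h * (a ^ i)⁻¹ = h
      rw [(Commute.pow_left (show Commute a (h : L) from hah) i).eq, mul_inv_cancel_right])
    rw [MonoidHom.finsetProd_apply, Finset.prod_congr rfl fun i _ => show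
      (l₀.comp (conjBy H (a ^ i))) h = l₀ h by rw [MonoidHom.comp_apply, hfix],
      Finset.prod_const, Finset.card_range]
    intro e
    have h1 : orderOf (l₀ h) ∣ p := orderOf_dvd_of_pow_eq_one e
    have h2 : orderOf (l₀ h) ∣ Nat.card H := (orderOf_map_dvd l₀ h).trans (orderOf_dvd_natCard h)
    exact hφ (orderOf_eq_one_iff.mp (Nat.eq_one_of_dvd_coprimes
      ((Fact.out : p.Prime).coprime_iff_not_dvd.mpr hpH) h1 h2))

/-- The norm of `Ind (1 - θ)`. -/
theorem inner_indFun_one_sub [Fintype H] {θ : H → ℂ} (hθ : IsIrrCharacter H θ)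
    (hθ1 : θ ≠ fun _ => 1) :
    classInner (indFun H ((fun _ => (1 : ℂ)) - θ)) (indFun H ((fun _ => (1 : ℂ)) - θ)) =
      ((H.index + H.relIndex (inertia H θ) : ℕ) : ℂ) := by
  have h0 : classInner (indFun H fun _ => (1 : ℂ)) (indFun H θ) = 0 :=
    inner_indOne_induced H (φ := indFun H θ) ⟨θ, hθ, hθ1, fun a ha => by
      rw [show a = 1 from Subtype.ext ha], rfl⟩
  rw [indFun_sub, Chars.inner_sub_left, Chars.inner_sub_right, Chars.inner_sub_right, h0,
    show classInner (indFun H θ) (indFun H fun _ => (1 : ℂ)) = 0 by rw [← inner_conj, h0, map_zero],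
    inner_indFun_self H hθ]
  have h1 : classInner (indFun H fun _ => (1 : ℂ)) (indFun H fun _ => (1 : ℂ)) = (H.index : ℂ) :=
    inner_indOne_indOne H
  rw [h1]
  push_cast
  ring

end Aux

variable {G : Type u} [Group G] [Fintype G]

/-- The averages relative to two disjoint Dade supports. -/
theorem norm_invDade_add_le {A B : Set G} {L M : Subgroup G} [Fintype L] [Fintype M]
    {R R' : G → Subgroup G} (hD : DadeHypothesis A L R) (hD' : DadeHypothesis B M R')
    (hdisj : Disjoint (dadeSupp A R) (dadeSupp B R')) {φ : G → ℂ} (hφ : IsClassFunction G φ)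
    (hnorm : classInner φ φ = 1) :
    (classInner (invDade A L R φ) (invDade A L R φ)).re +
      (classInner (invDade B M R' φ) (invDade B M R' φ)).re ≤ 1 := by
  classical
  have h1 := norm_invDade_le hD hφ
  have h2 := norm_invDade_le hD' hφ
  have hG : (0 : ℝ) ≤ (Nat.card G : ℝ)⁻¹ := by positivity
  have h3 : (∑ᶠ g ∈ dadeSupp A R, ‖φ g‖ ^ 2) + ∑ᶠ g ∈ dadeSupp B R', ‖φ g‖ ^ 2 ≤
      ∑ g : G, ‖φ g‖ ^ 2 := by
    rw [← finsum_mem_union hdisj (Set.toFinite _) (Set.toFinite _), finsum_mem_eq_toFinset_sum]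
    exact Finset.sum_le_univ_sum_of_nonneg fun g => by positivity
  have h4 : (Nat.card G : ℝ)⁻¹ * ∑ g : G, ‖φ g‖ ^ 2 = 1 := by
    have h := congrArg Complex.re hnorm
    rwa [inner_self_eq, Complex.ofReal_re, Complex.one_re] at h
  nlinarith [mul_le_mul_of_nonneg_left h3 hG]

variable (F : LocalFacts12.{u}) (h34 : NoSupportedIn G) (hG : IsMinSimpleOddOrder G)
  {p : ℕ} {L M A : Subgroup G} (S : Supported p L M A)

/-- For a Frobenius group of Type I the three sets coincide with `M_F^#`. -/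
theorem typeA_eq_of_frobenius (hI : IsOfTypeI M)
    (hfrob : ∀ h ∈ fittingHallOf M, h ≠ 1 → M ⊓ centralizer ({h} : Set G) ≤ fittingHallOf M) :
    typeA M = (fittingHallOf M : Set G) \ {1} := by
  rw [typeA, if_pos hI]
  ext a
  constructor
  · rintro ⟨ha, ha1, x, hx, hx1, hc⟩
    exact ⟨hfrob x hx hx1 ⟨ha, mem_centralizer_singleton_iff.mpr hc⟩, ha1⟩
  · rintro ⟨ha, ha1⟩
    exact ⟨CfsgLib.OddOrder.fittingHallOf_le M ha, ha1, a, ha, ha1, rfl⟩

include F hG in
theorem typeA1_eq_of_typeI (hM : IsCoatom M) (hI : IsOfTypeI M) :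
    typeA1 M = (fittingHallOf M : Set G) \ {1} := by
  rw [typeA1_eq F.base hG hM, fittingHallOf_eq_sigmaCore_of_typeI F.base hG hM hI]

variable (hfrob : ∀ h ∈ fittingHallOf M, h ≠ 1 → M ⊓ centralizer ({h} : Set G) ≤ fittingHallOf M)

include F hG S hfrob in
theorem Supported.orthData : OrthData L M := by
  refine ⟨CfsgLib.OddOrder.minSimple_odd hG, S.L_typeI,
    dadeHypothesis_typeSet F.base hG S.L_max (Or.inr (Or.inl rfl)), fun h hh hh1 => ⟨?_, fun hd => ?_⟩⟩
  · rw [typeA, if_pos S.L_typeI]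
    exact ⟨CfsgLib.OddOrder.fittingHallOf_le L hh, hh1, h, hh, hh1, rfl⟩
  · rw [dadeSupp_eq_tildeOf, typeA_eq_of_frobenius S.M_typeI hfrob,
      ← typeA1_eq_of_typeI F hG S.M_max S.M_typeI] at hd
    refine tildeA1_disjoint F.base hG S.M_max S.L_max S.nonconj h hd (mem_tildeOf_self ?_)
    rw [typeA1_eq_of_typeI F hG S.L_max S.L_typeI]
    exact ⟨hh, hh1⟩

theorem subgroupOf_fittingHallOf (M : Subgroup G) :
    (fittingHallOf M).subgroupOf M = fittingHall M := by
  rw [fittingHallOf, subgroupOf, comap_map_eq_self_of_injective M.subtype_injective]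

theorem mem_fittingHall_iff {M : Subgroup G} (x : M) :
    x ∈ fittingHall M ↔ (x : G) ∈ fittingHallOf M := by
  rw [← subgroupOf_fittingHallOf M, mem_subgroupOf]

theorem card_fittingHallOf (M : Subgroup G) :
    Nat.card (fittingHallOf M) = Nat.card (fittingHall M) := CfsgLib.Base.card_map_subtype _

include F h34 hG S hfrob in
/-- The coherent family of `M`. -/
theorem Supported.exists_coherent [Fintype M] [(fittingHall M).Normal] (h1542 : StmtS1542.{u}) :
    ∃ (T : Finset (M → ℂ)) (ν : (M → ℂ) → (G → ℂ)) (ζ : M → ℂ),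
      CoherentSetup (typeA M) M (supportR M) (fittingHall M) T ν ζ := by
  classical
  haveI := Fact.mk S.prime
  obtain ⟨hirr, -, ν, hν, hag⟩ := h1542 hG M S.M_max S.M_typeI hfrob
  set K := fittingHall M with hK
  have hfin := inducedIrrAbove_finite K (⊥ : Subgroup M)
  have hsol : Group.IsSolvable K := by
    haveI := CfsgLib.OddOrder.minSimple_solvable hG (H := M) S.M_max.1
    infer_instance
  have hbot : (⊥ : Subgroup M) < K := bot_lt_iff_ne_bot.mpr fun e => S.prime.not_dvd_one (by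
    have := S.p_dvd_kernel
    rwa [card_fittingHallOf, ← hK, e, card_bot] at this)
  obtain ⟨θ, hθ, hθ1, hker, hdeg⟩ := exists_linear_above K hsol hbot
  have hmem : indFun K θ ∈ inducedIrrAbove K ⊥ := ⟨θ, hθ, hθ1, hker, rfl⟩
  refine ⟨hfin.toFinset, ν, indFun K θ, ⟨dadeHypothesis_typeSet F.base hG S.M_max (Or.inr (Or.inl rfl)),
    fun x => ?_, hfin.coe_toFinset⟩, ?_, ?_, hfin.mem_toFinset.mpr hmem, hirr _ hmem, ?_⟩
  · rw [typeA_eq_of_frobenius S.M_typeI hfrob, mem_fittingHall_iff]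
    simp
  · rw [hfin.coe_toFinset]; exact hν
  · rw [hfin.coe_toFinset]; exact hag
  · rw [indFun_one_apply, hdeg, mul_one]

section Coherent

variable [Fintype M] [(fittingHall M).Normal] {T : Finset (M → ℂ)} {ν : (M → ℂ) → (G → ℂ)}
  {ζ : M → ℂ} (hC : CoherentSetup (typeA M) M (supportR M) (fittingHall M) T ν ζ)

include hG S hfrob hC in
/-- The exceptional character has no constant part and its average has norm `1 - f / |M_F|`. -/
theorem Supported.average_eq :
    (∀ a : M, (a : G) ∈ typeA M → invDade (typeA M) M (supportR M) (ν ζ) a = ζ a) ∧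
      (classInner (invDade (typeA M) M (supportR M) (ν ζ))
        (invDade (typeA M) M (supportR M) (ν ζ))).re =
      1 - ((fittingHall M).index : ℝ) / Nat.card (fittingHall M) := by
  classical
  set K := fittingHall M with hK
  obtain ⟨n, -, hn⟩ := hC.exists_coef
  have hφ := isClassFunction_of_isGeneralized (hC.nu_gen hC.zeta_mem)
  have hnorm : classInner (ν ζ) (ν ζ) = 1 := by rw [hC.nu_inner hC.zeta_mem hC.zeta_mem, hC.zeta_norm]
  have hre : (classInner (invDade (typeA M) M (supportR M) (ν ζ))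
      (invDade (typeA M) M (supportR M) (ν ζ))).re =
      (Nat.card M : ℝ)⁻¹ * ((Nat.card M : ℝ) - (K.index : ℝ) ^ 2 - 2 * (n : ℝ) * K.index +
        (n : ℝ) ^ 2 * ((Nat.card K : ℝ) - 1)) := by
    rw [hC.norm_invDade_nu_zeta_eq hn,
      show ((Nat.card M : ℂ)⁻¹ * ((Nat.card M : ℂ) - (K.index : ℂ) ^ 2 - 2 * (n : ℂ) * K.index +
        (n : ℂ) ^ 2 * ((Nat.card K : ℂ) - 1))) = (((Nat.card M : ℝ)⁻¹ * ((Nat.card M : ℝ) -
        (K.index : ℝ) ^ 2 - 2 * (n : ℝ) * K.index +
        (n : ℝ) ^ 2 * ((Nat.card K : ℝ) - 1)) : ℝ) : ℂ) by push_cast; ring, Complex.ofReal_re]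
  have hle : (classInner (invDade (typeA M) M (supportR M) (ν ζ))
      (invDade (typeA M) M (supportR M) (ν ζ))).re ≤ 1 := by
    refine (norm_invDade_le hC.dade hφ).trans ?_
    have h4 : (Nat.card G : ℝ)⁻¹ * ∑ g : G, ‖ν ζ g‖ ^ 2 = 1 := by
      have h := congrArg Complex.re hnorm
      rwa [inner_self_eq, Complex.ofReal_re, Complex.one_re] at h
    rw [← h4, finsum_mem_eq_toFinset_sum]
    exact mul_le_mul_of_nonneg_left (Finset.sum_le_univ_sum_of_nonneg fun g => by positivity)
      (by positivity)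
  obtain ⟨hdvd, hlt⟩ := S.index_lt hG hfrob
  rw [relIndex, subgroupOf_fittingHallOf, ← hK] at hlt
  have hp2 : p ^ 2 ≤ Nat.card K := by
    rw [← S.A_card, hK, ← card_fittingHallOf]
    exact card_le_of_le S.A_le_kernel
  have hoddp : Odd p := (CfsgLib.OddOrder.minSimple_odd hG).of_dvd_nat
    (S.p_dvd_kernel.trans (card_subgroup_dvd_card _))
  have hoddf : Odd K.index := ((CfsgLib.OddOrder.minSimple_odd hG).of_dvd_nat
    (card_subgroup_dvd_card M)).of_dvd_nat K.index_dvd_card
  have hn0 : n = 0 := by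
    by_contra hn0
    have hM0 : (0 : ℝ) < Nat.card M := by exact_mod_cast Nat.card_pos
    rw [hre, inv_mul_eq_div, div_le_one hM0] at hle
    have hint : (n : ℤ) ^ 2 * ((Nat.card K : ℤ) - 1) ≤ (K.index : ℤ) ^ 2 + 2 * n * K.index := by
      have : ((n ^ 2 * ((Nat.card K : ℤ) - 1) : ℤ) : ℝ) ≤
          (((K.index : ℤ) ^ 2 + 2 * n * K.index : ℤ) : ℝ) := by
        push_cast
        linarith
      exact_mod_cast this
    have hf2 : K.index + 2 ≤ p := by
      obtain ⟨i, hi⟩ := hoddp
      obtain ⟨j, hj⟩ := hoddf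
      omega
    have hK1 : ((K.index : ℤ) + 2) ^ 2 ≤ Nat.card K := by
      exact_mod_cast (Nat.pow_le_pow_left hf2 2).trans hp2
    have h1 : (1 : ℤ) ≤ n ^ 2 := by nlinarith [Int.one_le_abs hn0, sq_abs n]
    have h2 : n ≤ n ^ 2 := Int.le_self_sq n
    have hf0 : (0 : ℤ) ≤ K.index := Int.natCast_nonneg _
    nlinarith [mul_le_mul_of_nonneg_left h2 hf0, mul_le_mul_of_nonneg_left h1 (sq_nonneg (K.index : ℤ))]
  subst hn0
  refine ⟨fun a ha => ?_, ?_⟩
  · rw [hC.invDade_nu_zeta ha, hn, Int.cast_zero, add_zero]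
  · have hKM : (Nat.card M : ℝ) = Nat.card K * K.index := by exact_mod_cast K.card_mul_index.symm
    have hK0 : (Nat.card K : ℝ) ≠ 0 := Nat.cast_ne_zero.mpr Nat.card_pos.ne'
    have hi0 : (K.index : ℝ) ≠ 0 := Nat.cast_ne_zero.mpr Subgroup.index_ne_zero_of_finite
    rw [hre, hKM]
    push_cast
    field_simp
    ring

variable [Fintype L] {a : G} (ha : a ∈ A) (ha1 : a ≠ 1)
  (hfix : ∃ h ∈ fittingHallOf L, h ≠ 1 ∧ a * h = h * a)

include F hG S hfrob hC ha ha1 hfix in
/-- The values on the centraliser of `a` in `L_F` are congruent to `f`. -/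
theorem Supported.value_congr [Fintype (fittingHall L)] {I : Ideal AlgInt} [I.IsPrime] [Fact p.Prime]
    (hpI : (p : AlgInt) ∈ I) {u : G} (hu : u ∈ fittingHallOf L) (hau : a * u = u * a) :
    MemLocalIdeal I (ν ζ u - ((fittingHall M).index : ℂ)) := by
  classical
  haveI := fittingHall_normal (↥L)
  set φ := ν ζ with hφdef
  have hgen : IsGeneralizedCharacter G φ := hC.nu_gen hC.zeta_mem
  obtain ⟨hC', huniq, -, hR, haA1, haA⟩ := S.local_data a ha ha1 hfix
  have hord : orderOf a = p := orderOf_eq_prime (S.A_elem.2 a ha) ha1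
  have O := S.orthData F hG hfrob
  obtain ⟨W, hWc, hWi, -⟩ := exists_abelian_section S.L_typeI
  have haH : (⟨a, (S.A_le ha).2⟩ : L) ∉ fittingHall L := fun h => ha1 (mem_bot.mp
    (S.compl.2.2.1 ▸ ⟨(mem_fittingHall_iff _).mp h, S.A_le ha⟩))
  have hconst := fun (y : L) (hy : y ∈ fittingHall L) =>
    invDade_mul_right O hC (fun θ hθ hθ1 x hx z hz =>
      hWc x (hWi x θ hθ hθ1 hx) z (hWi z θ hθ hθ1 hz)) haH hy
  have hval : ∀ v, v ∈ fittingHallOf L → a * v = v * a →
      φ (a * v) = invDade (typeA L) L (supportR L) φ ⟨a, (S.A_le ha).2⟩ := by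
    intro v hv hav
    have hvL : v ∈ L := CfsgLib.OddOrder.fittingHallOf_le L hv
    rw [← hconst ⟨v, hvL⟩ ((mem_fittingHall_iff _).mpr hv)]
    have hnp : ¬ p ∣ orderOf v := fun h => S.not_dvd (h.trans (Subgroup.orderOf_dvd_natCard _ hv))
    have hne : a * v ≠ 1 := fun e => haH ((mem_fittingHall_iff _).mpr
      (show a ∈ fittingHallOf L from (eq_inv_of_mul_eq_one_left e).symm ▸ inv_mem hv))
    have hcent : centralizer ({a * v} : Set G) ≤ L := by
      refine le_trans ?_ hC'
      obtain ⟨k, hk⟩ := exists_pow_eq_self_of_coprime (n := orderOf v) (x := a)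
        (by rw [hord]; exact ((S.prime.coprime_iff_not_dvd).mpr hnp).symm)
      intro c hc
      rw [mem_centralizer_singleton_iff] at hc ⊢
      have hav' : (a * v) ^ orderOf v = a ^ orderOf v := by
        rw [(show Commute a v from hav).mul_pow, pow_orderOf_eq_one, mul_one]
      have hcc : Commute c ((a ^ orderOf v) ^ k) := by
        rw [← hav']
        exact ((show Commute c (a * v) from hc).pow_right _).pow_right _
      rw [hk] at hcc
      exact hcc.eq
    have hmem : a * v ∈ typeA L := by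
      rw [typeA, if_pos S.L_typeI]
      refine ⟨L.mul_mem (S.A_le ha).2 hvL, hne, ?_⟩
      by_cases hv1 : v = 1
      · obtain ⟨h, hh, hh1, hah⟩ := hfix
        exact ⟨h, hh, hh1, by rw [hv1, mul_one]; exact hah⟩
      · exact ⟨v, hv, hv1, by rw [← mul_assoc, ← hav, mul_assoc]⟩
    exact (invDade_of_bot (L := L) (a := ⟨a, (S.A_le ha).2⟩ * ⟨v, hvL⟩) hmem (supportR_of_le hcent)
      φ).symm
  have hall : ∀ v, v ∈ fittingHallOf L → a * v = v * a → φ (a * v) = φ a := fun v hv hav => by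
    have h1 := hval 1 (one_mem _) (by rw [mul_one, one_mul])
    rw [mul_one] at h1
    rw [hval v hv hav, h1]
  have haM : a ∈ M := (S.A_le ha).1
  have haAM : a ∈ typeA M := typeA1_subset_typeA F.base hG S.M_max haA1
  have hζ : φ a = ζ ⟨a, haM⟩ := by
    rw [← (S.average_eq hG hfrob hC).1 ⟨a, haM⟩ haAM, invDade_of_mem (a := ⟨a, haM⟩) haAM,
      finsum_mem_congr rfl (g := fun _ => φ a) fun r hr => by
        have hr' : r ∈ fittingHallOf L ⊓ centralizer ({a} : Set G) := hR ▸ hr
        exact hall r hr'.1 (mem_centralizer_singleton_iff.mp hr'.2).symm]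
    haveI := Fintype.ofFinite (supportR M a)
    rw [← finsum_set_coe_eq_finsum_mem, finsum_eq_sum_of_fintype, Finset.sum_const, nsmul_eq_mul,
      Finset.card_univ]
    simp only [SetLike.coe_sort_coe]
    rw [Nat.card_eq_fintype_card, inv_mul_cancel_left₀ (Nat.cast_ne_zero.mpr Fintype.card_ne_zero)]
  have hnp : ¬ p ∣ orderOf u := fun h => S.not_dvd (h.trans (Subgroup.orderOf_dvd_natCard _ hu))
  have h1 := memLocalIdeal_gen_sub (M := I) hpI hgen (a * u)
  rw [pPrimePart_mul (p := p) hau ⟨1, by rw [hord, pow_one]⟩ hnp, hall u hu hau, hζ] at h1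
  have h2 := memLocalIdeal_char_sub (M := I) hpI (hC.toKernelSetup.isCharacter hC.zeta_mem) ⟨a, haM⟩
  have h3 : pPrimePart p (⟨a, haM⟩ : M) = 1 := by
    have := pPrimePart_mul (p := p) (u := (⟨a, haM⟩ : M)) (y := 1) (Commute.one_right _)
      ⟨1, by rw [Subgroup.orderOf_mk, hord, pow_one]⟩ (by rw [orderOf_one]; exact S.prime.not_dvd_one)
    rwa [mul_one] at this
  rw [h3, hC.zeta_deg] at h2
  have h4 := MemLocalIdeal.sub' h2 h1
  rwa [show ∀ x y z : ℂ, (x - y) - (x - z) = z - y from fun x y z => by ring] at h4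

end Coherent

include F h34 hG S in
/-- The configuration does not exist for the least witness prime. -/
theorem Supported.false_of_min (h1542 : StmtS1542.{u})
    (hmin : ∀ q L' y, IsWitness (G := G) q L' y → p ≤ q) : False := by
  classical
  haveI := Fact.mk S.prime
  haveI := Fintype.ofFinite M
  haveI := Fintype.ofFinite L
  haveI := fittingHall_normal (↥M)
  haveI := fittingHall_normal (↥L)
  haveI := Fintype.ofFinite (fittingHall L)
  have hfrob := S.frobenius F h34 hG hmin
  obtain ⟨T, ν, ζ, hC⟩ := S.exists_coherent F h34 hG hfrob h1542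
  set φ := ν ζ with hφdef
  have hgen : IsGeneralizedCharacter G φ := hC.nu_gen hC.zeta_mem
  have hφ := isClassFunction_of_isGeneralized hgen
  set K := fittingHall M with hKdef
  set H := fittingHall L with hHdef
  set f := K.index with hfdef
  obtain ⟨hdvd, hlt⟩ := S.index_lt hG hfrob
  rw [relIndex, subgroupOf_fittingHallOf, ← hKdef, ← hfdef] at hdvd hlt
  obtain ⟨a, ha, ha1, h, hh, hh', hah⟩ := S.exists_fixer_outside hG
  have hh1 : h ≠ 1 := fun e => hh' (e ▸ one_mem _)
  have hfix : ∃ h ∈ fittingHallOf L, h ≠ 1 ∧ a * h = h * a := ⟨h, hh, hh1, hah⟩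
  obtain ⟨hC', -, -, -, -, -⟩ := S.local_data a ha ha1 hfix
  have haL : a ∈ L := (S.A_le ha).2
  have hap : a ^ p = 1 := S.A_elem.2 a ha
  have hpH : ¬ p ∣ Nat.card H := hHdef ▸ card_fittingHallOf L ▸ S.not_dvd
  have hhL : h ∈ L := CfsgLib.OddOrder.fittingHallOf_le L hh
  -- the invariant linear character
  obtain ⟨lam, hlam, hlamh⟩ := exists_invariant_hom (p := p) (a := (⟨a, haL⟩ : L)) (H := H)
    (Subtype.ext hap) (h := ⟨⟨h, hhL⟩, (mem_fittingHall_iff _).mpr hh⟩) (fun hc => hh' (by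
      have hmap := mem_map_of_mem (L.subtype.comp H.subtype) hc
      rw [commutator_def, map_commutator, ← MonoidHom.range_eq_map, MonoidHom.range_comp,
        range_subtype] at hmap
      exact hmap)) (Subtype.ext hah) hpH
  set θ : H → ℂ := fun n => (lam n : ℂ) with hθdef
  have hθ : IsIrrCharacter H θ := isIrrCharacter_linear lam
  have hθ1 : θ ≠ fun _ => 1 := fun e => hlamh (Units.ext (congrFun e _))
  set δ : H → ℂ := (fun _ => 1) - θ with hδ
  set α := indFun H δ with hα
  have hαgen : IsGeneralizedCharacter L α := isGeneralized_indFun H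
    ⟨fun _ => 1, θ, isCharacter_one, isCharacter_of_irr hθ, rfl⟩
  have hA1 : typeA1 L = (fittingHallOf L : Set G) \ {1} := typeA1_eq_of_typeI F hG S.L_max S.L_typeI
  have hD : DadeHypothesis (typeA1 L) L (supportR L) :=
    dadeHypothesis_typeSet F.base hG S.L_max (Or.inl rfl)
  have hαsupp : ∀ x : L, (x : G) ∉ typeA1 L → α x = 0 := by
    intro x hx
    by_cases hxH : x ∈ H
    · have hx1 : x = 1 := by
        by_contra hne
        exact hx (hA1 ▸ ⟨(mem_fittingHall_iff x).mp hxH, fun e => hne (Subtype.ext e)⟩)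
      rw [hx1, hα, indFun_one_apply, hδ, Pi.sub_apply, hθdef]
      simp
    · exact indFun_eq_zero_of_notMem H δ hxH
  set ρ := invDade (typeA1 L) L (supportR L) φ with hρdef
  have hρc : IsClassFunction L ρ := isClassFunction_invDade hD hφ
  -- the multiplicity
  obtain ⟨c, hc⟩ := inner_gen_int (mem_genChar.mpr hgen)
    (mem_genChar.mpr (isGeneralized_dadeIsometry hD hαgen hαsupp))
  have hc' : classInner α ρ = (c : ℂ) := by
    rw [hρdef, ← inner_dade hD (isClassFunction_of_isGeneralized hαgen) hαsupp hφ, ← inner_conj, hc,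
      map_intCast]
  -- the congruence
  obtain ⟨I, hI, hpI⟩ := exists_maximal_above p
  haveI := hI.isPrime
  have haH : (⟨a, haL⟩ : L) ∈ normalizer (H : Set L) := by rw [normalizer_eq_top]; exact mem_top _
  have hρf : ∀ n : H, n ≠ 1 → (⟨a, haL⟩ : L) * n = n * ⟨a, haL⟩ →
      MemLocalIdeal I (ρ n - ((f : ℤ) : ℂ)) := by
    intro n hn hcomm
    have hnA : ((n : L) : G) ∈ typeA1 L := hA1 ▸
      ⟨(mem_fittingHall_iff _).mp n.2, fun e => hn (Subtype.ext (Subtype.ext e))⟩
    have hcomm' : a * ((n : L) : G) = ((n : L) : G) * a := congrArg Subtype.val hcomm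
    have hn' : a ∈ normalizer (supportR L ((n : L) : G) : Set G) := by
      have hconj : ∀ l ∈ L, l * ((n : L) : G) * l⁻¹ = ((n : L) : G) → ∀ r,
          r ∈ supportR L ((n : L) : G) → l * r * l⁻¹ ∈ supportR L ((n : L) : G) := by
        intro l hl hfixl r hr
        have := dade_card_H_conj hD hnA hl r hr
        rwa [hfixl] at this
      refine mem_normalizer_iff.mpr fun r => ⟨hconj a haL
        (by rw [hcomm', mul_inv_cancel_right]) r, fun hr => ?_⟩
      have := hconj a⁻¹ (L.inv_mem haL)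
        (by rw [inv_inv, mul_assoc, ← hcomm', inv_mul_cancel_left]) _ hr
      simpa [mul_assoc] using this
    have h1 := memLocalIdeal_avg_sub (M := I) hpI (supportR L ((n : L) : G)) (y := ((n : L) : G))
      hap hn' hcomm' (fun r hr har => mem_bot.mp (hD.inf_eq_bot _ hnA ▸
        ⟨hr, hC' (mem_centralizer_singleton_iff.mpr har.symm), hD.le_centralizer _ hnA hr⟩))
      hφ (gen_mem_loc hgen)
    have h2 := S.value_congr F hG hfrob hC ha ha1 hfix (I := I) hpI
      ((mem_fittingHall_iff _).mp n.2) hcomm'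
    rw [hρdef, invDade_of_mem (a := (n : L)) hnA, Int.cast_natCast]
    have := MemLocalIdeal.add' h1 h2
    rwa [sub_add_sub_cancel] at this
  have hsum : ∑ n : H, ρ n * (1 - conj (lam n : ℂ)) = (Nat.card H : ℂ) * (c : ℂ) := by
    have h1 : classInner δ (fun n : H => ρ n) = (c : ℂ) := by
      rw [← inner_indFun H δ hρc]; exact hc'
    have h2 := congrArg conj h1
    rw [inner_conj, map_intCast, inner_def, inv_mul_eq_iff_eq_mul₀ (card_ne_zero H)] at h2
    rw [← h2]
    refine Finset.sum_congr rfl fun n _ => ?_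
    rw [hδ, Pi.sub_apply, map_sub, map_one]
  have hcong : (p : ℤ) ∣ c - (f : ℤ) := intCast_congr (M := I) hpI H (a := (⟨a, haL⟩ : L))
    (Subtype.ext hap) haH hpH (fun n => ρ n) (fun n => invDade_mem_loc hD hgen _)
    (fun n => hρc (n : L) ⟨a, haL⟩) hρf lam hlam
    ⟨⟨⟨h, hhL⟩, (mem_fittingHall_iff _).mpr hh⟩, Subtype.ext hah, hlamh⟩ hsum
  -- the norms
  obtain ⟨-, hnormM⟩ := S.average_eq hG hfrob hC
  have hnorm : classInner φ φ = 1 := by
    rw [hφdef, hC.nu_inner hC.zeta_mem hC.zeta_mem, hC.zeta_norm]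
  have hdisj : Disjoint (dadeSupp (typeA M) (supportR M)) (dadeSupp (typeA1 L) (supportR L)) := by
    rw [dadeSupp_eq_tildeOf, dadeSupp_eq_tildeOf, typeA_eq_of_frobenius S.M_typeI hfrob,
      ← typeA1_eq_of_typeI F hG S.M_max S.M_typeI, Set.disjoint_left]
    exact tildeA1_disjoint F.base hG S.M_max S.L_max S.nonconj
  have hsplit := norm_invDade_add_le hC.dade hD hdisj hφ hnorm
  have hρle : (classInner ρ ρ).re ≤ (f : ℝ) / Nat.card K := by
    rw [hρdef]
    linarith [hnormM]
  have hαnorm : (classInner α α).re = ((H.index + H.relIndex (inertia H θ) : ℕ) : ℝ) := by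
    rw [hα, hδ, inner_indFun_one_sub hθ hθ1, Complex.natCast_re]
  have hCS := sq_le_inner_mul_inner (ρ := α) (α := ρ) (c := (c : ℝ)) (by rw [hc']; norm_cast)
  -- the inertia group misses some element of `A`
  have hidx : H.index = Nat.card ↥(M ⊓ L) := by
    have h1 := BG15.card_mul_card_of_isComplIn S.compl
    rw [card_fittingHallOf, ← hHdef, ← H.card_mul_index] at h1
    exact (Nat.eq_of_mul_eq_mul_left Nat.card_pos h1).symm
  obtain ⟨b, hb, hbT⟩ : ∃ b : L, (b : G) ∈ A ∧ b ∉ inertia H θ := by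
    by_contra hcon
    push Not at hcon
    set N := (lam.ker.map H.subtype).map L.subtype with hN
    have hNH : N ≤ fittingHallOf L := by
      rintro _ ⟨_, ⟨n, -, rfl⟩, rfl⟩
      exact (mem_fittingHall_iff _).mp n.2
    have hinv : ∀ x : L, (x : G) ∈ A → ∀ n : H, lam (conjBy H x n) = lam n := fun x hx n =>
      Units.ext ((mem_inertia H).mp (hcon x hx) n)
    have hstab : ∀ x ∈ A, ∀ z ∈ N, x * z * x⁻¹ ∈ N := by
      rintro x hx _ ⟨_, ⟨n, hn, rfl⟩, rfl⟩
      exact ⟨_, ⟨conjBy H ⟨x, (S.A_le hx).2⟩ n,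
        MonoidHom.mem_ker.mpr ((hinv _ hx n).trans (MonoidHom.mem_ker.mp hn)), rfl⟩, rfl⟩
    obtain ⟨z, hz, hzN⟩ := Coprime.exists_centralizing_in_coset (A := A) (N := N) (k := h)
      (fun x hx => mem_normalizer_iff.mpr fun z => ⟨hstab x hx z, fun hz => by
        have := hstab x⁻¹ (A.inv_mem hx) _ hz
        simpa [mul_assoc] using this⟩)
      (Nat.Coprime.coprime_dvd_right (card_dvd_of_le hNH) (by
        rw [S.A_card]
        exact ((S.prime.coprime_iff_not_dvd).mpr S.not_dvd).pow_left 2))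
      (Or.inl (CfsgLib.OddOrder.minSimple_solvable hG fun e => S.L_max.1 (top_le_iff.mp
        (e ▸ S.A_le.trans inf_le_right))))
      (fun x hx => by
        refine ⟨_, ⟨(⟨⟨h, hhL⟩, (mem_fittingHall_iff _).mpr hh⟩ : H)⁻¹ *
          conjBy H ⟨x, (S.A_le hx).2⟩ ⟨⟨h, hhL⟩, (mem_fittingHall_iff _).mpr hh⟩, ?_, rfl⟩, rfl⟩
        show _ ∈ lam.ker
        rw [MonoidHom.mem_ker, map_mul, map_inv, hinv _ hx, inv_mul_cancel])
    have hzH : z ∈ fittingHallOf L := by
      have := mul_mem hh (hNH hzN)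
      rwa [mul_inv_cancel_left] at this
    rw [mem_bot.mp (S.A_free ▸ ⟨hzH, hz⟩ : z ∈ (⊥ : Subgroup G)), mul_one] at hzN
    obtain ⟨_, ⟨n, hn, rfl⟩, e⟩ := hzN
    refine hlamh ?_
    have he : n = (⟨⟨h, hhL⟩, (mem_fittingHall_iff _).mpr hh⟩ : H)⁻¹ :=
      Subtype.ext (Subtype.ext e)
    have := MonoidHom.mem_ker.mp hn
    rwa [he, map_inv, inv_eq_one] at this
  have hTp : p ≤ (inertia H θ).index := by
    have hbp : b ^ p = 1 := Subtype.ext (S.A_elem.2 _ hb)
    let e : Fin p → L ⧸ inertia H θ := fun i => ((b ^ (i : ℕ) : L) : L ⧸ inertia H θ)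
    have hinj : Function.Injective e := by
      intro i j hij
      by_contra hne
      wlog hlt : (i : ℕ) < j generalizing i j
      · exact this hij.symm (fun e => hne e.symm) (by
          have : (i : ℕ) ≠ j := fun e => hne (Fin.ext e)
          omega)
      refine hbT ?_
      have hmem : b ^ ((j : ℕ) - i) ∈ inertia H θ := by
        have h1 := QuotientGroup.eq.mp hij
        have h2 : (b ^ (i : ℕ))⁻¹ * b ^ (j : ℕ) = b ^ ((j : ℕ) - i) := by
          rw [inv_mul_eq_iff_eq_mul, ← pow_add, Nat.add_sub_cancel' hlt.le]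
        rwa [h2] at h1
      have hb1 : b ≠ 1 := fun e => hbT (e ▸ one_mem _)
      obtain ⟨k, hk⟩ := exists_pow_eq_self_of_coprime (n := (j : ℕ) - i) (x := b) (by
        rw [orderOf_eq_prime hbp hb1]
        refine ((S.prime.coprime_iff_not_dvd).mpr fun hd => ?_).symm
        have := Nat.le_of_dvd (by omega) hd
        have := j.isLt
        omega)
      exact hk ▸ pow_mem hmem k
    have := Nat.card_le_card_of_injective e hinj
    rwa [Nat.card_fin, ← index_eq_card] at this
  set t := H.relIndex (inertia H θ) with ht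
  have htd : t * p ≤ H.index := by
    rw [← relIndex_mul_index (le_inertia H (isClassFunction_of_isCharacter (isCharacter_of_irr hθ)))]
    exact Nat.mul_le_mul_left _ hTp
  have hdK : H.index ≤ Nat.card K := by
    rw [hidx, hKdef, ← card_fittingHallOf]
    exact card_le_of_le (S.inf_le_kernel hG hfrob)
  -- conclusion
  have hc2 : (p : ℝ) * (c : ℝ) ^ 2 ≤ f * (p + 1) := by
    have hK0 : (0 : ℝ) < Nat.card K := by exact_mod_cast Nat.card_pos
    have htd' : (t : ℝ) * p ≤ H.index := by exact_mod_cast htd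
    have hdK' : (H.index : ℝ) ≤ Nat.card K := by exact_mod_cast hdK
    rw [hαnorm] at hCS
    have h1 : (c : ℝ) ^ 2 ≤ ((H.index + t : ℕ) : ℝ) * ((f : ℝ) / Nat.card K) :=
      hCS.trans (mul_le_mul_of_nonneg_left hρle (Nat.cast_nonneg _))
    rw [mul_div_assoc', le_div_iff₀ hK0] at h1
    push_cast at h1
    have hp0 : (0 : ℝ) ≤ p := Nat.cast_nonneg _
    have hf0 : (0 : ℝ) ≤ f := Nat.cast_nonneg _
    have h2 := mul_le_mul_of_nonneg_left h1 hp0
    have h3 := mul_le_mul_of_nonneg_left htd' hf0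
    have h4 := mul_le_mul_of_nonneg_left hdK' (mul_nonneg hf0 (by linarith : (0 : ℝ) ≤ p + 1))
    have h5 : (p : ℝ) * (c : ℝ) ^ 2 * Nat.card K ≤ (f : ℝ) * (p + 1) * Nat.card K := by linarith
    exact le_of_mul_le_mul_right h5 hK0
  have hc3 : (c : ℤ) ^ 2 ≤ (f : ℤ) := by
    have h1 : (p : ℤ) * c ^ 2 ≤ f * (p + 1) := by exact_mod_cast hc2
    by_contra hlt'
    push Not at hlt'
    have hp0 : (0 : ℤ) ≤ p := Int.natCast_nonneg _
    have := mul_le_mul_of_nonneg_left (Int.add_one_le_of_lt hlt') hp0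
    have : (f : ℤ) < p := by exact_mod_cast hlt
    nlinarith
  have hoddG := CfsgLib.OddOrder.minSimple_odd hG
  have hf1 : 1 < f := by
    refine Nat.one_lt_iff_ne_zero_and_ne_one.mpr ⟨Subgroup.index_ne_zero_of_finite, fun e => ?_⟩
    obtain ⟨⟨-, -, -, hK2, -⟩, -⟩ := S.M_typeI
    exact hK2 (index_eq_one.mp e)
  exact numeric ((hoddG.of_dvd_nat (card_subgroup_dvd_card M)).of_dvd_nat K.index_dvd_card) hf1 hlt
    (hoddG.of_dvd_nat (S.p_dvd_kernel.trans (card_subgroup_dvd_card _))) hdvd hc3 hcong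

/-- Peterfalvi, section 12: a maximal subgroup of Type I is a Frobenius group, in one group. -/
theorem frobenius_of_typeI (F : LocalFacts12.{u}) (h1542 : StmtS1542.{u}) {G : Type u} [Group G]
    [Finite G] (hG : IsMinSimpleOddOrder G) (h34 : NoSupportedIn G) {M : Subgroup G}
    (hM : IsCoatom M) (hI : IsOfTypeI M) :
    ∀ x ∈ fittingHallOf M, x ≠ 1 → M ⊓ centralizer ({x} : Set G) ≤ fittingHallOf M := by
  intro x hx hx1 c hc
  classical
  by_contra hcH
  haveI := Fintype.ofFinite G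
  have hex : ∃ q, ∃ L' y, IsWitness (G := G) q L' y := by
    obtain ⟨q, y, w⟩ := exists_isWitness hM hI hx hx1 hc hcH
    exact ⟨q, M, y, w⟩
  obtain ⟨L, y, w⟩ := Nat.find_spec hex
  obtain ⟨N, A, S⟩ := w.exists_supported F h34 hG
  exact S.false_of_min F h34 hG h1542 fun q L' z wz => Nat.find_min' hex ⟨L', z, wz⟩

/-- Peterfalvi, section 12: a maximal subgroup of Type I is a Frobenius group. -/
theorem stmtS1540_of (F : LocalFacts12.{u}) (h34 : NoSupportedTypeP1.{u}) (h1542 : StmtS1542.{u}) :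
    StmtS1540.{u} :=
  fun hG _ hM hI => frobenius_of_typeI F h1542 hG (h34 hG) hM hI

end CfsgLib.FT.TypeOne
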