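import Cfsg.Agent.Lib.FT.PF8
import Cfsg.Agent.Lib.FT.BG15.General
import Cfsg.Agent.Lib.FT.FrobeniusFormula

/-!
# Maximal subgroups of Type I that are not Frobenius groups (Peterfalvi, section 12, group theory)
-/

set_option autoImplicit false
set_option linter.style.haveILetI false
set_option linter.unusedSectionVars false

namespace CfsgLib.FT.TypeOne

open _root_.Subgroup Cfsg

universe u

/-- The results of the local analysis used in section 12. -/
structure LocalFacts12 : Prop where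
  base : LocalFacts8.{u}
  s1350 : StmtS1350.{u}
  s1383 : StmtS1383.{u}
  s1417 : StmtS1417.{u}
  s1418 : StmtS1418.{u}
  s1425 : StmtS1425.{u}

/-- In `G` no maximal subgroup of Type III, IV or V is supported. -/
def NoSupportedIn (G : Type u) [Group G] : Prop :=
  ∀ M : Subgroup G, IsCoatom M → (IsOfTypeIII M ∨ IsOfTypeIV M ∨ IsOfTypeV M) →
    ∀ x ∈ typeA1 M, centralizer ({x} : Set G) ≤ M

/-- No maximal subgroup of Type III, IV or V is supported. -/
def NoSupportedTypeP1.{v} : Prop :=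
  ∀ {G : Type v} [Group G] [Finite G] (_hG : IsMinSimpleOddOrder G), NoSupportedIn G

variable {G : Type u} [Group G] [Finite G]

/-- Outside a normal Hall subgroup some power has prime order. -/
theorem exists_pow_prime_order {M N : Subgroup G} (hn : M ≤ normalizer (N : Set G))
    (hcop : (Nat.card N).Coprime (N.relIndex M)) {c : G} (hc : c ∈ M) (hcN : c ∉ N) :
    ∃ p, p.Prime ∧ ¬ p ∣ Nat.card N ∧ ∃ k : ℕ, orderOf (c ^ k) = p := by
  by_contra hcon
  push Not at hcon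
  haveI : (N.subgroupOf M).Normal := normal_subgroupOf_of_le_normalizer hn
  set r := N.relIndex M
  have hr : c ^ r ∈ N := by
    have h := (N.subgroupOf M).pow_index_mem ⟨c, hc⟩
    exact mem_subgroupOf.mp h
  have hco : r.Coprime (orderOf c) := by
    refine Nat.coprime_of_dvd fun q hq h1 h2 => ?_
    have hqN : q ∣ Nat.card N := by
      by_contra hq'
      refine hcon q hq hq' (orderOf c / q) ?_
      exact orderOf_pow_orderOf_div (orderOf_pos c).ne' h2
    exact hq.not_dvd_one (hcop ▸ Nat.dvd_gcd hqN h1)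
  obtain ⟨m, hm⟩ := exists_pow_eq_self_of_coprime hco
  exact hcN (hm ▸ pow_mem hr m)

/-- A normal Hall subgroup contains the elements whose order's primes it has. -/
theorem mem_of_prime_order {M N : Subgroup G} (hn : M ≤ normalizer (N : Set G))
    (hcop : (Nat.card N).Coprime (N.relIndex M)) {p : ℕ} (hp : p.Prime) (hd : p ∣ Nat.card N)
    {c : G} (hc : c ∈ M) (ho : orderOf c = p) : c ∈ N := by
  by_contra hcN
  obtain ⟨q, hq, hqN, k, hk⟩ := exists_pow_prime_order hn hcop hc hcN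
  have h : orderOf (c ^ k) ∣ orderOf c := orderOf_pow_dvd k
  rw [hk, ho, Nat.prime_dvd_prime_iff_eq hq hp] at h
  exact hqN (h ▸ hd)

/-- A conjugate of a `p`-subgroup lies in a subgroup of index prime to `p`. -/
theorem exists_conj_mem_le {p : ℕ} [Fact p.Prime] {E L P : Subgroup G}
    (hP : IsPGroup p P) (hPL : P ≤ L) (hd : ¬ p ∣ E.relIndex L) :
    ∃ g ∈ L, P.map (MulAut.conj g).toMonoidHom ≤ E := by
  obtain ⟨x, hx⟩ := (hP.of_equiv (subgroupOfEquivOfLe hPL).symm
    ).nonempty_fixed_point_of_prime_not_dvd_card (L ⧸ E.subgroupOf L)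
      (by rwa [← index_eq_card])
  obtain ⟨g, rfl⟩ := QuotientGroup.mk_surjective x
  refine ⟨(g : G)⁻¹, L.inv_mem g.2, ?_⟩
  rintro _ ⟨y, hy, rfl⟩
  have h : (((⟨y, hPL hy⟩ : L) * g : L) : L ⧸ E.subgroupOf L) = (g : L ⧸ E.subgroupOf L) :=
    hx ⟨⟨y, hPL hy⟩, hy⟩
  rw [QuotientGroup.eq, mem_subgroupOf] at h
  have h' := E.inv_mem h
  simpa [mul_assoc] using h'

variable (hG : IsMinSimpleOddOrder G)

theorem typeI_kappa_eq_empty (F : LocalFacts8.{u}) (hG : IsMinSimpleOddOrder G) {M : Subgroup G}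
    (hM : IsCoatom M) (hI : IsOfTypeI M) : kappa M = ∅ := by
  obtain ⟨K, U, hKU⟩ := exists_decomposition F hG hM
  obtain ⟨hK, -⟩ := (F.s1380 hG M hM K U hKU).mp hI
  by_contra hne
  obtain ⟨p, hp⟩ := Set.nonempty_iff_ne_empty.mpr hne
  obtain ⟨-, -, hidx⟩ := hKU.hall
  have h5 := hidx p hp.1
  rw [hK, relIndex_bot_left] at h5
  exact h5 hp hp.2.1

/-- A non-identity element of prime order `p` outside `L_F` centralizing an element of `L_F`. -/
structure IsWitness (p : ℕ) (L : Subgroup G) (x : G) : Prop where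
  prime : p.Prime
  coatom : IsCoatom L
  typeI : IsOfTypeI L
  order : orderOf x = p
  mem : x ∈ L
  not_mem : x ∉ fittingHallOf L
  fix : ∃ h ∈ fittingHallOf L, h ≠ 1 ∧ x * h = h * x

theorem exists_isWitness {L : Subgroup G} (hL : IsCoatom L) (hI : IsOfTypeI L) {h c : G}
    (hh : h ∈ fittingHallOf L) (hh1 : h ≠ 1) (hc : c ∈ L ⊓ centralizer ({h} : Set G))
    (hcH : c ∉ fittingHallOf L) : ∃ p x, IsWitness p L x := by
  obtain ⟨p, hp, hpH, k, hk⟩ := exists_pow_prime_order (CfsgLib.OddOrder.le_normalizer_fittingHallOf L)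
    (CfsgLib.OddOrder.coprime_fittingHallOf L) hc.1 hcH
  refine ⟨p, c ^ k, hp, hL, hI, hk, pow_mem hc.1 k, fun hm => ?_, h, hh, hh1, ?_⟩
  · exact hpH (hk ▸ Subgroup.orderOf_dvd_natCard _ hm)
  · exact ((mem_centralizer_singleton_iff.mp hc.2 : c * h = h * c) |> fun e =>
      (Commute.pow_left (show Commute c h from e) k).eq)

variable {p : ℕ} {L : Subgroup G} {x : G}

theorem IsWitness.ne_one (w : IsWitness p L x) : x ≠ 1 := fun e =>
  w.not_mem (e ▸ one_mem _)

theorem IsWitness.not_dvd (w : IsWitness p L x) : ¬ p ∣ Nat.card (fittingHallOf L) := fun hd =>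
  w.not_mem (mem_of_prime_order (CfsgLib.OddOrder.le_normalizer_fittingHallOf L)
    (CfsgLib.OddOrder.coprime_fittingHallOf L) w.prime hd w.mem w.order)

theorem IsWitness.not_mem_sigma (F : LocalFacts12.{u}) (hG : IsMinSimpleOddOrder G)
    (w : IsWitness p L x) : p ∉ sigma L := fun hσ => by
  refine w.not_dvd ?_
  rw [fittingHallOf_eq_sigmaCore_of_typeI F.base hG w.coatom w.typeI]
  obtain ⟨⟨-, -, hidx⟩, -, -⟩ := F.s1350 hG L w.coatom
  have h1 : p ∣ Nat.card (sigmaCore L) * (sigmaCore L).relIndex L := by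
    rw [mul_comm, BG15.relIndex_mul_card_of_le (sigmaCore_le L)]
    exact hσ.2.1
  exact (w.prime.dvd_mul.mp h1).resolve_right (hidx p w.prime hσ)

theorem IsWitness.mem_typeA (w : IsWitness p L x) : x ∈ typeA L := by
  rw [typeA, if_pos w.typeI]
  exact ⟨w.mem, w.ne_one, w.fix⟩

theorem IsWitness.spec (F : LocalFacts12.{u}) (hG : IsMinSimpleOddOrder G)
    (w : IsWitness p L x) :
    p ∈ tau2 L ∧ centralizer ({x} : Set G) ≤ L ∧
      (∀ L' : Subgroup G, IsCoatom L' → centralizer ({x} : Set G) ≤ L' → L' = L) ∧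
      ∃ M : Subgroup G, IsCoatom M ∧ p ∈ sigma M ∧ x ∈ sigmaCore M := by
  obtain ⟨h, hh, hh1, hxh⟩ := w.fix
  have hhσ : h ∈ sigmaCore L := fittingHallOf_eq_sigmaCore_of_typeI F.base hG w.coatom w.typeI ▸ hh
  have hpd : p ∣ orderOf x := dvd_of_eq w.order.symm
  have honly : ∀ q : ℕ, q.Prime → q ∣ orderOf x → q = p := fun q hq hd =>
    (Nat.prime_dvd_prime_iff_eq hq w.prime).mp (w.order ▸ hd)
  rcases F.base.s1432 hG L w.coatom h hhσ hh1 x
    ⟨w.mem, mem_centralizer_singleton_iff.mpr hxh⟩ w.ne_one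
    (fun q hq hd => honly q hq hd ▸ w.not_mem_sigma F hG) with ⟨hκ, -⟩ | ⟨hτ, ⟨L₀, hL₀, hσ⟩, hC, huniq⟩
  · have := hκ p w.prime hpd
    rw [typeI_kappa_eq_empty F.base hG w.coatom w.typeI] at this
    exact this.elim
  · refine ⟨hτ p w.prime hpd, hC, huniq, ?_⟩
    obtain ⟨g, hg⟩ := F.s1425 hG L₀ hL₀ (zpowers x)
      (fun e => w.ne_one (by simpa [e] using mem_zpowers x))
      (fun q hq hd => by rw [Nat.card_zpowers] at hd; exact hσ q hq hd)
    refine ⟨L₀.map (MulAut.conj g⁻¹).toMonoidHom, (isCoatom_map_iff _ L₀).mpr hL₀,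
      by rw [sigma_map]; exact hσ p w.prime hpd, ?_⟩
    rw [map_sigmaCore]
    exact ⟨_, hg ⟨x, mem_zpowers x, rfl⟩, by simp [mul_assoc]⟩

/-- The configuration attached to a witness: `L` supports `M`. -/
structure Supported (p : ℕ) (L M A : Subgroup G) : Prop where
  prime : p.Prime
  L_max : IsCoatom L
  L_typeI : IsOfTypeI L
  M_max : IsCoatom M
  M_typeI : IsOfTypeI M
  nonconj : ∀ g : G, L.map (MulAut.conj g).toMonoidHom ≠ M
  compl : IsComplIn (fittingHallOf L) (M ⊓ L) L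
  not_dvd : ¬ p ∣ Nat.card (fittingHallOf L)
  A_le : A ≤ M ⊓ L
  A_le_kernel : A ≤ fittingHallOf M
  A_elem : IsElementaryAbelian p A
  A_card : Nat.card A = p ^ 2
  A_normal : M ⊓ L ≤ normalizer (A : Set G)
  order_p : ∀ y ∈ M ⊓ L, orderOf y = p → y ∈ A
  A_free : fittingHallOf L ⊓ centralizer (A : Set G) = ⊥
  fixer : ∃ a ∈ A, a ≠ 1 ∧ ∃ h ∈ fittingHallOf L, h ≠ 1 ∧ a * h = h * a
  local_data : ∀ a ∈ A, a ≠ 1 → (∃ h ∈ fittingHallOf L, h ≠ 1 ∧ a * h = h * a) →
    centralizer ({a} : Set G) ≤ L ∧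
      (∀ L' : Subgroup G, IsCoatom L' → centralizer ({a} : Set G) ≤ L' → L' = L) ∧
      ¬ centralizer ({a} : Set G) ≤ M ∧
      supportR M a = fittingHallOf L ⊓ centralizer ({a} : Set G) ∧
      a ∈ typeA1 M ∧ a ∈ typeA L

theorem IsWitness.exists_supported (F : LocalFacts12.{u}) (h34 : NoSupportedIn G)
    (hG : IsMinSimpleOddOrder G) (w : IsWitness p L x) :
    ∃ M A : Subgroup G, Supported p L M A := by
  haveI := Fact.mk w.prime
  obtain ⟨hτ, hxL, -, M, hM, hpM, hxM⟩ := w.spec F hG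
  have hnc : ∀ g : G, L.map (MulAut.conj g).toMonoidHom ≠ M := fun g hg =>
    w.not_mem_sigma F hG (by rw [← sigma_map (MulAut.conj g) L, hg]; exact hpM)
  have hnc' : ∀ g : G, M.map (MulAut.conj g).toMonoidHom ≠ L := nonconj_symm hnc
  have hxA1 : x ∈ typeA1 M := by rw [typeA1_eq F.base hG hM]; exact ⟨hxM, w.ne_one⟩
  obtain ⟨hxnM, -⟩ := centralizer_facts_of_mem F.base hG hM w.coatom hnc hxA1 w.mem_typeA
  have hxA0 : x ∈ typeA M := typeA1_subset_typeA F.base hG hM hxA1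
  obtain ⟨hcompl, -⟩ := (F.base.s1391 hG M hM _ (Or.inl rfl)).2.2 x hxA0 hxnM L w.coatom hxL
  have hMI : IsOfTypeI M := by
    obtain ⟨K, U, hKU⟩ := exists_decomposition F.base hG hM
    by_cases hK : K = ⊥
    · refine (F.base.s1380 hG M hM K U hKU).mpr ⟨hK, fun hU => ?_⟩
      have h := hKU.compl
      rw [hK, hU, bot_sup_eq] at h
      have hMs : M ≤ sigmaCore M := fun m hm => by
        obtain ⟨a, ha, b, hb, rfl⟩ := h.2.2.2 m hm
        rw [mem_bot] at ha
        rwa [ha, one_mul]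
      obtain ⟨-, -, h3, h4, -⟩ := F.base.s1355 hG M hM
      exact (lt_of_le_of_lt (hMs.trans h3) h4).false
    · exfalso
      by_cases hU : U = ⊥
      · refine hxnM (h34 M hM ?_ x hxA1)
        by_cases hF : fittingHallOf M = sigmaCore M
        · exact Or.inr (Or.inr ((F.s1383 hG M hM K U hKU).mpr ⟨hK, hU, hF⟩))
        · exact ((F.base.s1382 hG M hM K U hKU).mpr ⟨hK, hU, hF⟩).imp_right Or.inl
      · exact hxnM (centralizer_le_of_typeII F.base hG hM ((F.base.s1381 hG M hM K U hKU).mpr ⟨hK, hU⟩)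
          (typeA_subset_typeA0 M hxA0))
  have hFH : fittingHallOf L = sigmaCore L :=
    fittingHallOf_eq_sigmaCore_of_typeI F.base hG w.coatom w.typeI
  have hLn : L ≤ normalizer (fittingHallOf L : Set G) := CfsgLib.OddOrder.le_normalizer_fittingHallOf L
  have hE : IsComplIn (M ⊓ L) (sigmaCore L) L := by
    refine BG15.isComplIn_of_card inf_le_right (sigmaCore_le L) (hFH ▸ inf_le_right.trans hLn)
      (by rw [← hFH, inf_comm]; exact hcompl.2.2.1) ?_
    rw [← hFH, mul_comm]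
    exact BG15.card_mul_card_of_isComplIn hcompl
  have hidx : ¬ p ∣ (M ⊓ L).relIndex L := fun hd => by
    have h1 := BG15.relIndex_mul_card_of_le (inf_le_right : M ⊓ L ≤ L)
    rw [← BG15.card_mul_card_of_isComplIn hcompl] at h1
    rw [Nat.eq_of_mul_eq_mul_right Nat.card_pos h1] at hd
    exact w.not_dvd hd
  obtain ⟨-, -, hr2, hr1⟩ := hτ
  rw [PRankLE] at hr1
  push Not at hr1
  obtain ⟨A₀, hA₀c, hA₀e, hA₀card⟩ := hr1
  have hA₀p : IsPGroup p A₀ := fun a => ⟨1, Subtype.ext (by simpa using hA₀e a a.2)⟩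
  have hA₀2 : Nat.card A₀ = p ^ 2 := by
    obtain ⟨n, hn⟩ := IsPGroup.iff_card.mp hA₀p
    have h2 := hr2 A₀ hA₀c hA₀e
    rw [hn] at hA₀card h2 ⊢
    have := (Nat.pow_lt_pow_iff_right w.prime.one_lt).mp hA₀card
    have := (Nat.pow_le_pow_iff_right w.prime.one_lt).mp h2
    rw [show n = 2 by omega]
  obtain ⟨g, hg, hle⟩ := exists_conj_mem_le (E := M ⊓ L) (hA₀p.map L.subtype) (map_subtype_le A₀) hidx
  set A := (A₀.map L.subtype).map (MulAut.conj g).toMonoidHom with hA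
  have hel : IsElementaryAbelian p A := by
    refine ⟨⟨⟨fun a b => Subtype.ext ?_⟩⟩, ?_⟩
    · obtain ⟨_, ⟨_, ⟨a', ha', rfl⟩, rfl⟩⟩ := a
      obtain ⟨_, ⟨_, ⟨b', hb', rfl⟩, rfl⟩⟩ := b
      have hab : a' * b' = b' * a' := congrArg Subtype.val (hA₀c.is_comm.comm ⟨a', ha'⟩ ⟨b', hb'⟩)
      show (MulAut.conj g) (a' : G) * (MulAut.conj g) (b' : G) = _
      rw [← map_mul, ← Subgroup.coe_mul, hab, Subgroup.coe_mul, map_mul]
      rfl
    · rintro _ ⟨_, ⟨a, ha, rfl⟩, rfl⟩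
      rw [← map_pow, ← map_pow, hA₀e a ha, map_one, map_one]
  have hcard : Nat.card A = p ^ 2 := by
    rw [hA, card_map_equiv, CfsgLib.Base.card_map_subtype, hA₀2]
  have hτ' : p ∈ tau2 L := (w.spec F hG).1
  obtain ⟨⟨hnorm, hall⟩, -⟩ := F.s1418 hG L w.coatom (M ⊓ L) hE p hτ' A ⟨hle, hel, hcard⟩
  obtain ⟨-, -, -, hfree, -⟩ := F.s1417 hG L w.coatom p hτ' A ⟨hle.trans inf_le_right, hel, hcard⟩
  have horder : ∀ y ∈ M ⊓ L, orderOf y = p → y ∈ A := fun y hy ho =>
    hall (zpowers y) (zpowers_le.mpr hy) (by rw [Nat.card_zpowers, ho]) (mem_zpowers y)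
  have hker : A ≤ fittingHallOf M := by
    intro a ha
    by_cases ha1 : a = 1
    · subst ha1; exact one_mem _
    rw [fittingHallOf_eq_sigmaCore_of_typeI F.base hG hM hMI]
    obtain ⟨⟨-, -, hidxM⟩, -, -⟩ := F.s1350 hG M hM
    have hcop : (Nat.card (sigmaCore M)).Coprime ((sigmaCore M).relIndex M) := by
      rw [← fittingHallOf_eq_sigmaCore_of_typeI F.base hG hM hMI]
      exact CfsgLib.OddOrder.coprime_fittingHallOf M
    refine mem_of_prime_order ?_ hcop w.prime ?_ (hle ha).1 (orderOf_eq_prime (hel.2 a ha) ha1)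
    · rw [← fittingHallOf_eq_sigmaCore_of_typeI F.base hG hM hMI]
      exact CfsgLib.OddOrder.le_normalizer_fittingHallOf M
    · rw [← w.order]
      exact Subgroup.orderOf_dvd_natCard _ hxM
  exact ⟨M, A, w.prime, w.coatom, w.typeI, hM, hMI, hnc, hcompl, w.not_dvd, hle, hker, hel, hcard,
    hnorm, horder, by rw [hFH]; exact hfree,
    ⟨x, horder x ⟨(sigmaCore_le M) hxM, w.mem⟩ w.order, w.ne_one, w.fix⟩, fun a ha ha1 hfix => by
      have wa : IsWitness p L a := ⟨w.prime, w.coatom, w.typeI, orderOf_eq_prime (hel.2 a ha) ha1,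
        (hle ha).2, fun hm => ha1 (mem_bot.mp (hcompl.2.2.1 ▸ ⟨hm, hle ha⟩)), hfix⟩
      obtain ⟨-, hC, huniq, -⟩ := wa.spec F hG
      have haA1 : a ∈ typeA1 M := by
        rw [typeA1_eq F.base hG hM, ← fittingHallOf_eq_sigmaCore_of_typeI F.base hG hM hMI]
        exact ⟨hker ha, ha1⟩
      obtain ⟨hnM, -⟩ := centralizer_facts_of_mem F.base hG hM w.coatom hnc haA1 wa.mem_typeA
      refine ⟨hC, huniq, hnM, ?_, haA1, wa.mem_typeA⟩
      have hh : ¬ centralizer ({a} : Set G) ≤ M ∧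
          ∃! L' : Subgroup G, IsCoatom L' ∧ centralizer ({a} : Set G) ≤ L' :=
        ⟨hnM, L, ⟨w.coatom, hC⟩, fun L' hL' => huniq L' hL'.1 hL'.2⟩
      rw [supportR, dif_pos hh]
      obtain ⟨h1, h2⟩ := Classical.choose_spec hh.2.exists
      rw [huniq _ h1 h2]⟩

end CfsgLib.FT.TypeOne
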