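import Cfsg.Agent.Lib.FT.TypeOne.Structure
import Cfsg.Agent.Lib.FT.CoherentOrth
import Cfsg.Agent.Lib.FT.PF711
import Cfsg.Agent.Lib.FT.TypeICoherence
import Cfsg.Agent.Lib.CharsMore.ItoDegree

/-!
# Peterfalvi (12.4): a character of the coherent family of `M` is constant on cosets of `L_F`
-/

set_option autoImplicit false
set_option linter.style.haveILetI false
set_option linter.unusedSectionVars false

namespace CfsgLib.FT.TypeOne

open _root_.Subgroup Cfsg CfsgLib.Chars CfsgLib.CharsMore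
open scoped ComplexConjugate

universe u

variable {G : Type u} [Group G] [Fintype G] {L : Subgroup G} [Fintype L]

/-- The irreducible characters over nonprincipal characters of `L_F` live on `A(L)`. -/
theorem irr_eq_zero_of_notMem_typeA (hI : IsOfTypeI L) [Fintype (fittingHall L)] {χ : L → ℂ}
    (hχ : IsIrrCharacter L χ)
    (h0 : classInner (fun n : fittingHall L => χ n) (fun _ => 1) = 0) {a : L}
    (ha : (a : G) ∉ typeA L) (ha1 : a ≠ 1) : χ a = 0 := by
  haveI := fittingHall_normal (↥L)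
  refine irr_apply_eq_zero_of_fpf hχ h0 fun h hh hc => ?_
  by_contra hne
  refine ha ?_
  rw [typeA, if_pos hI]
  exact ⟨a.2, fun e => ha1 (Subtype.ext e), h, ⟨h, hh, rfl⟩,
    fun e => hne (Subtype.ext e), congrArg Subtype.val hc⟩

theorem sub_supported (hI : IsOfTypeI L) [Fintype (fittingHall L)] {χ χ' : L → ℂ}
    (hχ : IsIrrCharacter L χ) (hχ' : IsIrrCharacter L χ')
    (h0 : classInner (fun n : fittingHall L => χ n) (fun _ => 1) = 0)
    (h0' : classInner (fun n : fittingHall L => χ' n) (fun _ => 1) = 0) (hd : χ 1 = χ' 1) (a : L)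
    (ha : (a : G) ∉ typeA L) : (χ - χ') a = 0 := by
  rw [Pi.sub_apply]
  by_cases ha1 : a = 1
  · rw [ha1, hd, sub_self]
  · rw [irr_eq_zero_of_notMem_typeA hI hχ h0 ha ha1, irr_eq_zero_of_notMem_typeA hI hχ' h0' ha ha1,
      sub_self]

theorem conj_inner_one_eq_zero [Fintype (fittingHall L)] {χ : L → ℂ}
    (h0 : classInner (fun n : fittingHall L => χ n) (fun _ => 1) = 0) :
    classInner (fun n : fittingHall L => conjFun χ n) (fun _ => 1) = 0 := by
  have h := congrArg conj h0
  rw [map_zero, ← CharsMore.inner_conjFun] at h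
  rw [← h]
  congr 1
  funext x
  exact (map_one _).symm

/-- A character with real restriction to `L_F` has `L_F` in its kernel, the order being odd. -/
theorem false_of_real_restrict (hodd : Odd (Nat.card L)) [Fintype (fittingHall L)] {χ : L → ℂ}
    (hχ : IsIrrCharacter L χ) (h0 : classInner (fun n : fittingHall L => χ n) (fun _ => 1) = 0)
    (hreal : ∀ n : fittingHall L, conj (χ n) = χ n) : False := by
  haveI := fittingHall_normal (↥L)
  set H := fittingHall L
  obtain ⟨θ, hθ⟩ := exists_below H hχ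
  have hθ' : classInner (fun n : H => χ n) (conjFun (θ : H → ℂ)) ≠ 0 := fun h => hθ (by
    have h2 := congrArg conj h
    rw [map_zero, ← CharsMore.inner_conjFun, conjFun_conjFun] at h2
    rw [← h2]
    congr 1
    funext n
    exact (hreal n).symm)
  obtain ⟨g, hg⟩ := restrict_constituents_conj H hχ θ.2 (isIrrCharacter_conj θ.2) hθ hθ'
  have hg2 : g * g ∈ inertia H (θ : H → ℂ) := by
    show conjFn H (g * g) (θ : H → ℂ) = θ
    rw [conjFn_mul, hg]
    funext n
    show conj ((θ : H → ℂ) (conjBy H g n)) = _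
    rw [show (θ : H → ℂ) (conjBy H g n) = conjFun (θ : H → ℂ) n from congrFun hg n]
    exact Complex.conj_conj _
  have hgi : g ∈ inertia H (θ : H → ℂ) := by
    obtain ⟨k, hk⟩ := exists_pow_eq_self_of_coprime (n := 2) (x := g)
      (Nat.coprime_two_left.mpr (hodd.of_dvd_nat (orderOf_dvd_natCard g)))
    rw [← hk, pow_two]
    exact pow_mem hg2 k
  have hr : conjFun (θ : H → ℂ) = θ := hg.symm.trans hgi
  have hp := eq_principal_of_real_of_odd (hodd.of_dvd_nat (card_subgroup_dvd_card H)) θ
    fun n => Complex.conj_eq_iff_im.mp (congrFun hr n)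
  exact hθ (by rw [hp]; convert h0 using 3; rfl)

variable {M : Subgroup G} [Fintype M] {KM : Subgroup M} [KM.Normal] {S : Finset (M → ℂ)}
  {ν : (M → ℂ) → (G → ℂ)} {ζ : M → ℂ}

/-- The data for the orthogonality argument. -/
structure OrthData (L M : Subgroup G) : Prop where
  odd : Odd (Nat.card G)
  typeI : IsOfTypeI L
  dade : DadeHypothesis (typeA L) L (supportR L)
  kernel_mem : ∀ h ∈ fittingHallOf L, h ≠ 1 →
    h ∈ typeA L ∧ h ∉ dadeSupp (typeA M) (supportR M)

variable (O : OrthData L M) (hC : CoherentSetup (typeA M) M (supportR M) KM S ν ζ)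
include O hC

/-- The image of `χ - χ̄` avoids the exceptional characters of `M`. -/
theorem exists_image_sub_conj [Fintype (fittingHall L)] {ψ : IrrCharacter G} {ε : ℤ}
    (hE : CoherentSetup.Exceptional ν ζ ψ ε) {χ : L → ℂ} (hχ : IsIrrCharacter L χ)
    (h0 : classInner (fun n : fittingHall L => χ n) (fun _ => 1) = 0) :
    ∃ μ : IrrCharacter G, conjIrr μ ≠ μ ∧ μ ≠ ψ ∧ μ ≠ conjIrr ψ ∧
      dadeIsometry (typeA L) L (supportR L) (χ - conjFun χ) = (μ : G → ℂ) - (conjIrr μ : G → ℂ) := by
  classical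
  have hoddL : Odd (Nat.card L) := O.odd.of_dvd_nat (card_subgroup_dvd_card L)
  have hχc : IsIrrCharacter L (conjFun χ) := isIrrCharacter_conj hχ
  have hd : χ 1 = conjFun χ 1 := by
    obtain ⟨n, -, hn⟩ := irr_degree_nat hχ
    show χ 1 = conj (χ 1)
    rw [hn, map_natCast]
  have hne : χ ≠ conjFun χ := fun e =>
    false_of_real_restrict hoddL hχ h0 fun n => (congrFun e n).symm
  set τ := dadeIsometry (typeA L) L (supportR L)
  have hgen : IsGeneralizedCharacter L (χ - conjFun χ) :=
    ⟨χ, conjFun χ, isCharacter_of_irr hχ, isCharacter_of_irr hχc, rfl⟩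
  have hsupp := sub_supported O.typeI hχ hχc h0 (conj_inner_one_eq_zero h0) hd
  have hnorm : classInner (τ (χ - conjFun χ)) (τ (χ - conjFun χ)) = 2 := by
    rw [inner_dadeIsometry_dadeIsometry O.dade (isClassFunction_of_isGeneralized hgen) hsupp
      (isClassFunction_of_isGeneralized hgen), Chars.inner_sub_left, Chars.inner_sub_right,
      Chars.inner_sub_right, inner_irr_of_isIrr hχ hχ, inner_irr_of_isIrr hχ hχc,
      inner_irr_of_isIrr hχc hχ, inner_irr_of_isIrr hχc hχc, if_pos rfl, if_pos rfl, if_neg hne,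
      if_neg (Ne.symm hne)]
    norm_num
  obtain ⟨μ, μ', hμ, hτ⟩ := exists_diff_of_norm_two
    (isGeneralized_dadeIsometry O.dade hgen hsupp) hnorm (dadeIsometry_one O.dade _)
  have hanti : (conjIrr μ : G → ℂ) - (conjIrr μ' : G → ℂ) = (μ' : G → ℂ) - μ := by
    rw [show (conjIrr μ : G → ℂ) - (conjIrr μ' : G → ℂ) = conjFun ((μ : G → ℂ) - (μ' : G → ℂ)) from
      funext fun g => (map_sub _ _ _).symm, ← hτ, conjFun_dadeIsometry, ← neg_sub (μ : G → ℂ) (μ' : G → ℂ),
      ← hτ]
    funext g
    simp only [τ, dadeIsometry, Pi.neg_apply]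
    split
    · show conj (χ _ - conj (χ _)) = -(χ _ - conj (χ _))
      rw [map_sub, Complex.conj_conj, neg_sub]
    · exact neg_zero.symm
  have h4 : μ' = conjIrr μ := by
    by_contra h
    have h3 := congrArg (fun f => classInner f (conjIrr μ : G → ℂ)) hanti
    simp only [Chars.inner_sub_left, inner_irr, if_pos] at h3
    rw [if_neg (fun e => hμ (by rw [← conjIrr_conjIrr μ, ← e, conjIrr_conjIrr])),
      if_neg h] at h3
    split at h3 <;> norm_num at h3
  rw [h4] at hτ hμ
  have hkey : ∀ c : ℂ, τ (χ - conjFun χ) ≠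
      c • dadeIsometry (typeA M) M (supportR M) (ζ - conjFun ζ) := by
    intro c hc
    refine false_of_real_restrict hoddL hχ h0 fun n => ?_
    by_cases hn1 : (n : L) = 1
    · rw [hn1]
      exact hd.symm
    obtain ⟨hnA, hnM⟩ := O.kernel_mem _ ⟨n, n.2, rfl⟩ fun e' => hn1 (Subtype.ext e')
    have hz : dadeIsometry (typeA M) M (supportR M) (ζ - conjFun ζ) ((n : L) : G) = 0 :=
      dadeIsometry_eq_zero hC.dade fun hh => hnM hh
    have hv : τ (χ - conjFun χ) ((n : L) : G) = (χ - conjFun χ) n :=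
      dadeIsometry_apply O.dade (isClassFunction_of_isGeneralized hgen) n hnA (x := 1) (u := 1)
        (one_mem _) (by group)
    rw [hc, Pi.smul_apply, hz, smul_zero] at hv
    exact (sub_eq_zero.mp hv.symm).symm
  have he2 : ((ε : ℂ) * ε) = 1 := by rcases hE.sign with h | h <;> simp [h]
  have hM : dadeIsometry (typeA M) M (supportR M) (ζ - conjFun ζ) =
      (ε : ℂ) • ((ψ : G → ℂ) - (conjIrr ψ : G → ℂ)) := by
    rw [hC.dade_sub_conj, hE.apply_zeta, hE.apply_conj, smul_sub]
  refine ⟨μ, hμ.symm, fun e => hkey ε ?_, fun e => hkey (-(ε : ℂ)) ?_, hτ⟩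
  · rw [hM, smul_smul, he2, one_smul, show τ (χ - conjFun χ) = _ from hτ, e]
  · rw [hM, smul_smul, neg_mul, he2, neg_one_smul, neg_sub, show τ (χ - conjFun χ) = _ from hτ, e,
      conjIrr_conjIrr]

/-- The exceptional character is orthogonal to the images of the differences of equal degree. -/
theorem inner_nu_image_sub [Fintype (fittingHall L)] {χ χ' : L → ℂ} (hχ : IsIrrCharacter L χ)
    (hχ' : IsIrrCharacter L χ')
    (h0 : classInner (fun n : fittingHall L => χ n) (fun _ => 1) = 0)
    (h0' : classInner (fun n : fittingHall L => χ' n) (fun _ => 1) = 0) (hd : χ 1 = χ' 1) :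
    classInner (ν ζ) (dadeIsometry (typeA L) L (supportR L) (χ - χ')) = 0 := by
  classical
  obtain ⟨ψ, ε, hE⟩ := hC.exists_exceptional O.odd
  obtain ⟨μ, hμc, hμ1, hμ2, hμ⟩ := exists_image_sub_conj O hC hE hχ h0
  obtain ⟨μ', hμc', hμ1', hμ2', hμ'⟩ := exists_image_sub_conj O hC hE hχ' h0'
  set τ := dadeIsometry (typeA L) L (supportR L) with hτdef
  have horth : ∀ {ρ : IrrCharacter G}, ρ ≠ ψ → classInner (ν ζ) (ρ : G → ℂ) = 0 := fun {ρ} h => by
    rw [hE.apply_zeta, Chars.inner_smul_left, inner_irr_ne h.symm, mul_zero]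
  have hconjψ : ∀ {ρ : IrrCharacter G}, ρ ≠ conjIrr ψ → conjIrr ρ ≠ ψ := fun {ρ} h e =>
    h (by rw [← e, conjIrr_conjIrr])
  by_cases he : χ = χ'
  · subst he
    rw [sub_self, show τ 0 = 0 from funext fun g => by simp [hτdef, dadeIsometry]]
    exact Chars.inner_zero_right _
  by_cases hec : conjFun χ = χ'
  · rw [← hec, hμ, Chars.inner_sub_right, horth hμ1, horth (hconjψ hμ2), sub_zero]
  have hχc : IsIrrCharacter L (conjFun χ) := isIrrCharacter_conj hχ
  have hχc' : IsIrrCharacter L (conjFun χ') := isIrrCharacter_conj hχ'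
  have hgen : ∀ {α β : L → ℂ}, IsIrrCharacter L α → IsIrrCharacter L β →
      IsGeneralizedCharacter L (α - β) := fun hα hβ =>
    ⟨_, _, isCharacter_of_irr hα, isCharacter_of_irr hβ, rfl⟩
  have hdc : ∀ {α : L → ℂ}, IsIrrCharacter L α → α 1 = conjFun α 1 := fun {α} hα => by
    obtain ⟨n, -, hn⟩ := irr_degree_nat hα
    show α 1 = conj (α 1)
    rw [hn, map_natCast]
  have hinner : ∀ {a b c d : L → ℂ}, IsIrrCharacter L a → IsIrrCharacter L b →
      IsIrrCharacter L c → IsIrrCharacter L d →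
      classInner (fun n : fittingHall L => a n) (fun _ => 1) = 0 →
      classInner (fun n : fittingHall L => b n) (fun _ => 1) = 0 → a 1 = b 1 →
      classInner (τ (a - b)) (τ (c - d)) = (if a = c then 1 else 0) - (if a = d then 1 else 0) -
        ((if b = c then 1 else 0) - (if b = d then 1 else 0)) := fun ha hb hc hd' ha0 hb0 hab => by
    rw [inner_dadeIsometry_dadeIsometry O.dade (isClassFunction_of_isGeneralized (hgen ha hb))
      (sub_supported O.typeI ha hb ha0 hb0 hab) (isClassFunction_of_isGeneralized (hgen hc hd')),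
      Chars.inner_sub_left, Chars.inner_sub_right, Chars.inner_sub_right, inner_irr_of_isIrr ha hc,
      inner_irr_of_isIrr ha hd', inner_irr_of_isIrr hb hc, inner_irr_of_isIrr hb hd']
  have hne : χ ≠ conjFun χ := fun e =>
    false_of_real_restrict (O.odd.of_dvd_nat (card_subgroup_dvd_card L)) hχ h0
      fun n => (congrFun e n).symm
  obtain ⟨a, b, hab, hτ⟩ := exists_diff_of_norm_two (θ := τ (χ - χ'))
    (isGeneralized_dadeIsometry O.dade (hgen hχ hχ') (sub_supported O.typeI hχ hχ' h0 h0' hd))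
    (by
      rw [hinner hχ hχ' hχ hχ' h0 h0' hd, if_pos rfl, if_pos rfl, if_neg he, if_neg (Ne.symm he)]
      norm_num)
    (dadeIsometry_one O.dade _)
  have hec' : χ ≠ conjFun χ' := fun e => hec (by rw [e, conjFun_conjFun])
  have hne' : χ' ≠ conjFun χ' := fun e =>
    false_of_real_restrict (O.odd.of_dvd_nat (card_subgroup_dvd_card L)) hχ' h0'
      fun n => (congrFun e n).symm
  -- the two image pairs are different
  have hdis : μ ≠ μ' ∧ μ ≠ conjIrr μ' := by
    have h := hinner hχ hχc hχ' hχc' h0 (conj_inner_one_eq_zero h0) (hdc hχ)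
    rw [if_neg he, if_neg hec', if_neg hec, if_neg fun e => he (by
      rw [← conjFun_conjFun χ, e, conjFun_conjFun]), hμ, hμ', Chars.inner_sub_left,
      Chars.inner_sub_right, Chars.inner_sub_right] at h
    constructor
    · intro e
      simp only [e, inner_irr, if_pos, if_neg hμc', if_neg (Ne.symm hμc')] at h
      norm_num at h
    · intro e
      simp only [e, conjIrr_conjIrr, inner_irr, if_pos, if_neg hμc', if_neg (Ne.symm hμc')] at h
      norm_num at h
  -- the first pair meets `{a, b}`, and so does the second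
  have hfirst : (a = μ ∨ a = conjIrr μ) ∨ (b = μ ∨ b = conjIrr μ) := by
    by_contra hcon
    push Not at hcon
    obtain ⟨⟨h1, h2⟩, h3, h4⟩ := hcon
    have h := hinner hχ hχ' hχ hχc h0 h0' hd
    rw [if_pos rfl, if_neg hne, if_neg (Ne.symm he), if_neg (Ne.symm hec), hτ, hμ,
      Chars.inner_sub_left, Chars.inner_sub_right, Chars.inner_sub_right, inner_irr_ne h1,
      inner_irr_ne h2, inner_irr_ne h3, inner_irr_ne h4] at h
    norm_num at h
  have hsecond : (a = μ' ∨ a = conjIrr μ') ∨ (b = μ' ∨ b = conjIrr μ') := by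
    by_contra hcon
    push Not at hcon
    obtain ⟨⟨h1, h2⟩, h3, h4⟩ := hcon
    have h := hinner hχ hχ' hχ' hχc' h0 h0' hd
    rw [if_neg he, if_neg hec', if_pos rfl, if_neg hne', hτ, hμ', Chars.inner_sub_left,
      Chars.inner_sub_right, Chars.inner_sub_right, inner_irr_ne h1, inner_irr_ne h2, inner_irr_ne h3,
      inner_irr_ne h4] at h
    norm_num at h
  have h12 : ∀ ρ : IrrCharacter G, (ρ = μ ∨ ρ = conjIrr μ) → (ρ = μ' ∨ ρ = conjIrr μ') → False := by
    rintro ρ (rfl | rfl) (e | e)
    · exact hdis.1 e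
    · exact hdis.2 e
    · exact hdis.2 (by rw [← e, conjIrr_conjIrr])
    · exact hdis.1 (by rw [← conjIrr_conjIrr μ, e, conjIrr_conjIrr])
  have hok : ∀ ρ : IrrCharacter G, (ρ = μ ∨ ρ = conjIrr μ) ∨ (ρ = μ' ∨ ρ = conjIrr μ') → ρ ≠ ψ := by
    rintro ρ ((rfl | rfl) | (rfl | rfl))
    exacts [hμ1, hconjψ hμ2, hμ1', hconjψ hμ2']
  have hboth : a ≠ ψ ∧ b ≠ ψ := by
    rcases hfirst with h1 | h1 <;> rcases hsecond with h2 | h2
    · exact (h12 a h1 h2).elim
    · exact ⟨hok a (Or.inl h1), hok b (Or.inr h2)⟩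
    · exact ⟨hok a (Or.inr h2), hok b (Or.inl h1)⟩
    · exact (h12 b h1 h2).elim
  rw [hτ, Chars.inner_sub_right, horth hboth.1, horth hboth.2, sub_zero]

omit O hC in
theorem invDade_of_bot {A : Set G} {R : G → Subgroup G} {a : L} (ha : (a : G) ∈ A)
    (hR : R (a : G) = ⊥) (χ : G → ℂ) : invDade A L R χ a = χ a := by
  rw [invDade_of_mem ha, hR, Subgroup.coe_bot, finsum_mem_singleton, mul_one, card_bot, Nat.cast_one,
    inv_one, one_mul]

/-- Peterfalvi (12.4): the average of `ν ζ` on `A(L)` is constant on cosets of `L_F` outside it. -/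
theorem invDade_mul_right (hW : ∀ θ : fittingHall L → ℂ, IsIrrCharacter (fittingHall L) θ →
      θ ≠ (fun _ => 1) → ∀ x ∈ inertia (fittingHall L) θ, ∀ y ∈ inertia (fittingHall L) θ,
        x * y * x⁻¹ * y⁻¹ ∈ fittingHall L)
    {a : L} (ha : a ∉ fittingHall L) {y : L} (hy : y ∈ fittingHall L) :
    invDade (typeA L) L (supportR L) (ν ζ) (a * y) = invDade (typeA L) L (supportR L) (ν ζ) a := by
  classical
  haveI := fittingHall_normal (↥L)
  haveI := Fintype.ofFinite (fittingHall L)
  have hφ : IsClassFunction G (ν ζ) := isClassFunction_of_isGeneralized (hC.nu_gen hC.zeta_mem)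
  refine classFun_mul_right (isClassFunction_invDade O.dade hφ) (fun θ hθ hθ1 χ χ' hχ hχ' h h' => ?_)
    ha hy
  have hdeg := constituent_degree_eq hθ (hW θ hθ hθ1) hχ hχ' h h'
  refine ⟨?_, hdeg⟩
  have h0 : classInner (fun n : fittingHall L => χ n) (fun _ => 1) = 0 := by
    by_contra hne
    exact h (inner_restrict_eq_zero_of_one hχ hne hθ hθ1)
  have h0' : classInner (fun n : fittingHall L => χ' n) (fun _ => 1) = 0 := by
    by_contra hne
    exact h' (inner_restrict_eq_zero_of_one hχ' hne hθ hθ1)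
  have hz := inner_nu_image_sub O hC hχ hχ' h0 h0' hdeg
  have hgen : IsGeneralizedCharacter L (χ - χ') :=
    ⟨_, _, isCharacter_of_irr hχ, isCharacter_of_irr hχ', rfl⟩
  have h2 := congrArg conj hz
  rw [map_zero, Chars.inner_conj, inner_dade O.dade (isClassFunction_of_isGeneralized hgen)
    (sub_supported O.typeI hχ hχ' h0 h0' hdeg) hφ] at h2
  have h3 := congrArg conj h2
  rw [map_zero, Chars.inner_conj, Chars.inner_sub_right] at h3
  exact sub_eq_zero.mp h3

end CfsgLib.FT.TypeOne
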