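import Cfsg.Agent.Lib.FT.TypeOne.Group
import Cfsg.Agent.Lib.FT.TypeOne.CharFacts
import Cfsg.Agent.Lib.CharsMore.CoherenceKernel
import Cfsg.Agent.Lib.OddOrder.Generation
import Cfsg.Agent.Lib.Base.Nilpotent
import Cfsg.Agent.S1536

/-!
# The structure of the configuration of Peterfalvi, section 12

For the least witness prime `p`: the supported subgroup `M` is a Frobenius group, `M ∩ L ≤ M_F`,
and the index of `M_F` in `M` is less than `p` and divides `p² - 1`.
-/

set_option autoImplicit false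
set_option linter.style.haveILetI false
set_option linter.unusedSectionVars false

namespace CfsgLib.FT.TypeOne

open _root_.Subgroup Cfsg

universe u

variable {G : Type u} [Group G] [Finite G]

/-- The central elements of exponent `p` of a subgroup. -/
def omegaCenter (K : Subgroup G) (p : ℕ) : Subgroup G where
  carrier := {k | k ∈ K ∧ k ^ p = 1 ∧ ∀ y ∈ K, y * k = k * y}
  one_mem' := ⟨one_mem _, one_pow _, fun y _ => by rw [mul_one, one_mul]⟩
  mul_mem' := fun {a b} ha hb => ⟨mul_mem ha.1 hb.1, by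
      rw [Commute.mul_pow (hb.2.2 a ha.1) p, ha.2.1, hb.2.1, one_mul], fun y hy =>
      Commute.mul_right (show Commute y a from ha.2.2 y hy) (show Commute y b from hb.2.2 y hy)⟩
  inv_mem' := fun {a} ha => ⟨inv_mem ha.1, by rw [inv_pow, ha.2.1, inv_one], fun y hy =>
      Commute.inv_right (show Commute y a from ha.2.2 y hy)⟩

theorem omegaCenter_ne_bot {K : Subgroup G} (hK : Group.IsNilpotent K) {p : ℕ} [hp : Fact p.Prime]
    (hd : p ∣ Nat.card K) : omegaCenter K p ≠ ⊥ := by
  obtain ⟨P⟩ : Nonempty (Sylow p K) := inferInstance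
  haveI := hK
  haveI : (P : Subgroup K).Normal := inferInstance
  have hP : (P : Subgroup K) ≠ ⊥ := P.ne_bot_of_dvd_card hd
  obtain ⟨z, hz, hz1⟩ := (bot_or_exists_ne_one _).resolve_left
    (CfsgLib.Base.inf_center_ne_bot_of_isNilpotent hP)
  obtain ⟨n, hn⟩ := IsPGroup.iff_orderOf.mp P.isPGroup' ⟨z, hz.1⟩
  rw [Subgroup.orderOf_mk] at hn
  have hn0 : n ≠ 0 := fun e => hz1 (orderOf_eq_one_iff.mp (by rw [hn, e, pow_zero]))
  have ho : orderOf (z ^ (orderOf z / p)) = p :=
    orderOf_pow_orderOf_div (orderOf_pos z).ne' (hn ▸ dvd_pow_self p hn0)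
  have hc : z ^ (orderOf z / p) ∈ center K := pow_mem hz.2 _
  intro hb
  have hmem : ((z ^ (orderOf z / p) : K) : G) ∈ omegaCenter K p := by
    refine ⟨Subtype.prop _, ?_, fun y hy => congrArg Subtype.val (mem_center_iff.mp hc ⟨y, hy⟩)⟩
    have h := pow_orderOf_eq_one (z ^ (orderOf z / p))
    rw [ho] at h
    exact congrArg Subtype.val h
  rw [hb, mem_bot] at hmem
  have h1 : z ^ (orderOf z / p) = 1 := Subtype.ext hmem
  rw [h1, orderOf_one] at ho
  exact hp.out.ne_one ho.symm

theorem omegaCenter_normalized {K : Subgroup G} {p : ℕ} {g : G}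
    (hg : g ∈ normalizer (K : Set G)) {z : G} (hz : z ∈ omegaCenter K p) :
    g * z * g⁻¹ ∈ omegaCenter K p := by
  obtain ⟨h1, h2, h3⟩ := hz
  refine ⟨(mem_normalizer_iff.mp hg z).mp h1, by rw [conj_pow, h2, mul_one, mul_inv_cancel],
    fun y hy => ?_⟩
  have hy' : g⁻¹ * y * g ∈ K := (mem_normalizer_iff.mp hg _).mpr (by simpa [mul_assoc] using hy)
  calc y * (g * z * g⁻¹) = g * (g⁻¹ * y * g * z) * g⁻¹ := by group
    _ = g * (z * (g⁻¹ * y * g)) * g⁻¹ := by rw [h3 _ hy']
    _ = g * z * g⁻¹ * y := by group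

/-- The points of `Z` moved by an element of prime order fall into orbits of that size. -/
theorem card_fixed_modEq (Z : Subgroup G) {a : G} {q : ℕ} [Fact q.Prime] (ha : a ^ q = 1)
    (hn : a ∈ normalizer (Z : Set G)) :
    Nat.card Z ≡ Nat.card ↥(Z ⊓ centralizer ({a} : Set G)) [MOD q] := by
  classical
  haveI := Fintype.ofFinite Z
  let σ : Equiv.Perm Z :=
    { toFun := fun z => ⟨a * z * a⁻¹, (mem_normalizer_iff.mp hn _).mp z.2⟩
      invFun := fun z => ⟨a⁻¹ * z * a,
        (mem_normalizer_iff.mp hn _).mpr (by simp [mul_assoc])⟩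
      left_inv := fun z => Subtype.ext (by simp [mul_assoc])
      right_inv := fun z => Subtype.ext (by simp [mul_assoc]) }
  have hpow : ∀ (n : ℕ) (z : Z), ((σ ^ n) z : G) = a ^ n * z * (a ^ n)⁻¹ := by
    intro n
    induction n with
    | zero => intro z; simp
    | succ n ih =>
      intro z
      rw [pow_succ, Equiv.Perm.mul_apply, ih, pow_succ, mul_inv_rev]
      show a ^ n * (a * z * a⁻¹) * (a ^ n)⁻¹ = _
      group
  have hσ : σ ^ q ^ 1 = 1 := by
    ext z
    rw [pow_one, hpow, ha]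
    simp
  rw [Nat.card_eq_fintype_card]
  refine (Equiv.Perm.card_compl_support_modEq hσ).symm.trans ?_
  rw [← Fintype.card_coe, ← Nat.card_eq_fintype_card]
  refine (Nat.card_congr ?_).symm ▸ Nat.ModEq.refl _
  exact
    { toFun := fun z => ⟨z.1.1, z.1.2, mem_centralizer_singleton_iff.mpr (by
        have h : σ z.1 = z.1 := Equiv.Perm.notMem_support.mp (Finset.mem_compl.mp z.2)
        have h' := congrArg Subtype.val h
        exact (mul_inv_eq_iff_eq_mul.mp h').symm)⟩
      invFun := fun z => ⟨⟨z.1, z.2.1⟩, by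
        rw [Finset.mem_compl, Equiv.Perm.mem_support, not_not]
        refine Subtype.ext ?_
        show a * (z : G) * a⁻¹ = z
        rw [← mem_centralizer_singleton_iff.mp z.2.2, mul_inv_cancel_right]⟩
      left_inv := fun z => rfl
      right_inv := fun z => rfl }

/-- The subgroup `H U₁` of a group of Type I. -/
theorem exists_abelian_section {L : Subgroup G} (hI : IsOfTypeI L) :
    ∃ W : Subgroup L, (∀ a ∈ W, ∀ b ∈ W, a * b * a⁻¹ * b⁻¹ ∈ fittingHall L) ∧
      (∀ t : L, (∀ θ : fittingHall L → ℂ, IsIrrCharacter (fittingHall L) θ → θ ≠ (fun _ => 1) →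
        (fun h : fittingHall L => θ ⟨t * h * t⁻¹, (fittingHall_normal L).conj_mem h h.2 t⟩) = θ →
          t ∈ W)) ∧
      ∀ (r : ℕ) (e : L), r.Prime → orderOf e = r → ¬ r ∣ Nat.card (fittingHall L) →
        (∃ h ∈ fittingHall L, h ≠ 1 ∧ e * h = h * e) → e ∈ W := by
  classical
  obtain ⟨⟨-, -, -, -, U, -, hUc, ⟨U₁, hU₁U, hU₁n, hU₁c, hcent⟩, -⟩, -⟩ := hI
  haveI := fittingHall_normal (↥L)
  haveI := Fintype.ofFinite L
  set H := fittingHall L
  refine ⟨H ⊔ U₁, fun a ha b hb => ?_, fun t θ hθ hθ1 hfix => ?_, fun r e hr he hrH hfx => ?_⟩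
  · rw [← QuotientGroup.eq_one_iff (N := H)]
    have himg : ∀ c ∈ H ⊔ U₁, ∃ d ∈ U₁, QuotientGroup.mk' H c = QuotientGroup.mk' H d := by
      intro c hc
      rw [← SetLike.mem_coe, normal_mul, Set.mem_mul] at hc
      obtain ⟨h, hh, d, hd, rfl⟩ := hc
      refine ⟨d, hd, ?_⟩
      rw [map_mul, show QuotientGroup.mk' H h = 1 from (QuotientGroup.eq_one_iff (N := H) h).mpr hh,
        one_mul]
    obtain ⟨a', ha', ea⟩ := himg a ha
    obtain ⟨b', hb', eb⟩ := himg b hb
    change QuotientGroup.mk' H (a * b * a⁻¹ * b⁻¹) = 1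
    rw [map_mul, map_mul, map_mul, map_inv, map_inv, ea, eb, ← map_inv, ← map_inv, ← map_mul,
      ← map_mul, ← map_mul]
    have hab : a' * b' = b' * a' := congrArg Subtype.val (hU₁c.is_comm.comm ⟨a', ha'⟩ ⟨b', hb'⟩)
    rw [hab, mul_inv_cancel_right, mul_inv_cancel, map_one]
  · have ht : t ∈ ((H ⊔ U : Subgroup L) : Set L) := by rw [hUc.sup_eq_top]; exact mem_top t
    rw [normal_mul, Set.mem_mul] at ht
    obtain ⟨h, hh, v, hv, rfl⟩ := ht
    have hcop : (Nat.card H).Coprime H.index := (CfsgLib.OddOrder.fittingHall_nilpotent_hall L).2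
    have hfixv : (fun k : H => θ ⟨v * k * v⁻¹, (fittingHall_normal L).conj_mem k k.2 v⟩) = θ := by
      funext k
      have h1 := congrFun hfix k
      rw [← h1]
      have hcl : IsClassFunction H θ :=
        Chars.isClassFunction_of_isCharacter (Chars.isCharacter_of_irr hθ)
      have h2 := hcl ⟨v * k * v⁻¹, (fittingHall_normal L).conj_mem k k.2 v⟩ ⟨h, hh⟩
      rw [← h2]
      congr 1
      refine Subtype.ext (Subtype.ext ?_)
      change (h : G) * ((v : G) * k * (v : G)⁻¹) * (h : G)⁻¹ = (h : G) * v * k * ((h : G) * v)⁻¹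
      group
    obtain ⟨k, hk, hk1, hvk⟩ := (Cfsg.Agent.S1536.result H hcop v).mp ⟨θ, hθ, hθ1, hfixv⟩
    exact mul_mem_sup hh (hcent k hk hk1 ⟨hv, mem_centralizer_singleton_iff.mpr hvk⟩)
  · haveI := Fact.mk hr
    have hidx : ¬ r ∣ U.relIndex (⊤ : Subgroup L) := by
      rw [relIndex_top_right, hUc.index_eq_card]
      exact hrH
    obtain ⟨g, -, hle⟩ := exists_conj_mem_le (E := U) (P := zpowers e)
      (IsPGroup.of_card (n := 1) (by rw [Nat.card_zpowers, he, pow_one])) le_top hidx
    obtain ⟨h, hh, hh1, heh⟩ := hfx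
    have hu : g * e * g⁻¹ ∈ U := hle ⟨e, mem_zpowers e, by simp⟩
    have hU1 : g * e * g⁻¹ ∈ U₁ := by
      refine hcent (g * h * g⁻¹) ((fittingHall_normal L).conj_mem h hh g)
        (fun e' => hh1 (conj_eq_one_iff.mp e')) ⟨hu, mem_centralizer_singleton_iff.mpr ?_⟩
      calc g * e * g⁻¹ * (g * h * g⁻¹) = g * (e * h) * g⁻¹ := by group
        _ = g * (h * e) * g⁻¹ := by rw [heh]
        _ = g * h * g⁻¹ * (g * e * g⁻¹) := by group
    have hnW : ∀ y : L, y ∈ normalizer ((H ⊔ U₁ : Subgroup L) : Set L) := by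
      intro y
      have hy : y ∈ ((H ⊔ U : Subgroup L) : Set L) := by rw [hUc.sup_eq_top]; exact mem_top y
      rw [normal_mul, Set.mem_mul] at hy
      obtain ⟨a, ha, b, hb, rfl⟩ := hy
      refine mul_mem (le_normalizer (mem_sup_left ha)) ?_
      rw [mem_normalizer_iff_map_conj_eq, Subgroup.map_sup,
        mem_normalizer_iff_map_conj_eq.mp (hU₁n hb),
        mem_normalizer_iff_map_conj_eq.mp (by rw [normalizer_eq_top]; exact mem_top b)]
    exact (mem_normalizer_iff.mp (hnW g) e).mpr (mem_sup_right hU1)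

variable (F : LocalFacts12.{u}) (h34 : NoSupportedIn G) (hG : IsMinSimpleOddOrder G)
  {p : ℕ} {L M A : Subgroup G} (S : Supported p L M A)

include S in
theorem Supported.inf_kernel_eq_bot : fittingHallOf L ⊓ (M ⊓ L) = ⊥ := S.compl.2.2.1

include S in
theorem Supported.p_dvd_kernel : p ∣ Nat.card (fittingHallOf M) :=
  (dvd_pow_self p two_ne_zero).trans (S.A_card ▸ card_dvd_of_le S.A_le_kernel)

include S in
theorem Supported.omega_le : omegaCenter (fittingHallOf M) p ≤ A := by
  haveI := Fact.mk S.prime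
  intro z hz
  obtain ⟨hzK, hzp, hzc⟩ := hz
  by_cases hz1 : z = 1
  · subst hz1; exact one_mem _
  obtain ⟨a, ha, ha1, hfix⟩ := S.fixer
  refine S.order_p z ⟨CfsgLib.OddOrder.fittingHallOf_le M hzK, ?_⟩ (orderOf_eq_prime hzp hz1)
  exact (S.local_data a ha ha1 hfix).1
    (mem_centralizer_singleton_iff.mpr (hzc a (S.A_le_kernel ha)).symm)

include S in
theorem Supported.omega_card :
    Nat.card (omegaCenter (fittingHallOf M) p) = p ∨
      Nat.card (omegaCenter (fittingHallOf M) p) = p ^ 2 := by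
  haveI := Fact.mk S.prime
  obtain ⟨n, hn, he⟩ := (Nat.dvd_prime_pow S.prime).mp (S.A_card ▸ card_dvd_of_le S.omega_le)
  have h0 : n ≠ 0 := by
    rintro rfl
    rw [pow_zero, card_eq_one] at he
    exact omegaCenter_ne_bot (CfsgLib.OddOrder.isNilpotent_fittingHallOf M) S.p_dvd_kernel he
  interval_cases n
  · exact absurd rfl h0
  · exact Or.inl (by rw [he, pow_one])
  · exact Or.inr he

include F h34 hG S in
/-- For the least witness prime the supported subgroup is a Frobenius group. -/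
theorem Supported.frobenius (hmin : ∀ q L' y, IsWitness (G := G) q L' y → p ≤ q) :
    ∀ h ∈ fittingHallOf M, h ≠ 1 →
      M ⊓ centralizer ({h} : Set G) ≤ fittingHallOf M := by
  intro h hh hh1 c hc
  by_contra hcK
  obtain ⟨q, y, w⟩ := exists_isWitness S.M_max S.M_typeI hh hh1 hc hcK
  obtain ⟨M', B, T⟩ := w.exists_supported F h34 hG
  haveI := Fact.mk w.prime
  set Z := omegaCenter (fittingHallOf M) p with hZ
  have hZK : Z ≤ fittingHallOf M := fun z hz => hz.1
  haveI := Fact.mk S.prime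
  obtain ⟨z, hz, hz1⟩ := (bot_or_exists_ne_one Z).resolve_left
    (omegaCenter_ne_bot (CfsgLib.OddOrder.isNilpotent_fittingHallOf M) S.p_dvd_kernel)
  obtain ⟨a, ha, hza⟩ : ∃ a ∈ B, a * z ≠ z * a := by
    by_contra hcon
    push Not at hcon
    exact hz1 (mem_bot.mp (T.A_free ▸ ⟨hZK hz, mem_centralizer_iff.mpr fun b hb => hcon b hb⟩))
  have hn : a ∈ normalizer (Z : Set G) := by
    have haM : a ∈ M := (T.A_le ha).2
    refine mem_normalizer_iff.mpr fun x => ⟨fun hx => omegaCenter_normalized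
      (CfsgLib.OddOrder.le_normalizer_fittingHallOf M haM) hx, fun hx => ?_⟩
    have := omegaCenter_normalized (g := a⁻¹)
      (CfsgLib.OddOrder.le_normalizer_fittingHallOf M (M.inv_mem haM)) hx
    simpa [mul_assoc] using this
  have hmod := card_fixed_modEq Z (T.A_elem.2 a ha) hn
  have hne : Nat.card ↥(Z ⊓ centralizer ({a} : Set G)) ≠ Nat.card Z := fun e => hza (by
    have hmem : z ∈ Z ⊓ centralizer ({a} : Set G) := by
      rw [eq_of_le_of_card_ge inf_le_left e.ge]; exact hz
    exact (mem_centralizer_singleton_iff.mp hmem.2).symm)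
  have hdvd : Nat.card ↥(Z ⊓ centralizer ({a} : Set G)) ∣ Nat.card Z := card_dvd_of_le inf_le_left
  have hle := hmin q M y w
  have hqp : q ≠ p := fun e => w.not_dvd (e ▸ S.p_dvd_kernel)
  have hq2 : q ≠ 2 := CfsgLib.OddOrder.minSimple_ne_two hG
    (w.order ▸ orderOf_dvd_natCard y)
  have hp3 : 3 ≤ p := by
    have := S.prime.two_le
    have := CfsgLib.OddOrder.minSimple_ne_two hG
      (S.p_dvd_kernel.trans (card_subgroup_dvd_card _))
    omega
  have key : q ∣ p - 1 ∨ q ∣ p + 1 := by
    rcases S.omega_card with e | e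
    · rw [← hZ] at e
      rw [e] at hdvd hne hmod
      rw [(S.prime.eq_one_or_self_of_dvd _ hdvd).resolve_right hne] at hmod
      exact Or.inl ((Nat.modEq_iff_dvd' (by omega)).mp hmod.symm)
    · rw [← hZ] at e
      rw [e] at hdvd hne hmod
      obtain ⟨n, hn2, en⟩ := (Nat.dvd_prime_pow S.prime).mp hdvd
      rw [en] at hne hmod
      have hn2' : n < 2 := lt_of_le_of_ne hn2 fun e' => hne (by rw [e'])
      interval_cases n
      · have h := (Nat.modEq_iff_dvd' (by nlinarith)).mp hmod.symm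
        rw [pow_zero, show p ^ 2 - 1 = (p + 1) * (p - 1) by
          rw [← Nat.sq_sub_sq p 1, one_pow]] at h
        exact (w.prime.dvd_mul.mp h).symm
      · have h := (Nat.modEq_iff_dvd' (by nlinarith)).mp hmod.symm
        rw [pow_one, show p ^ 2 - p = p * (p - 1) by
          rw [Nat.mul_sub, mul_one, pow_two]] at h
        exact Or.inl ((w.prime.dvd_mul.mp h).resolve_left fun h' =>
          hqp ((Nat.prime_dvd_prime_iff_eq w.prime S.prime).mp h'))
  rcases key with hk | hk
  · have := Nat.le_of_dvd (by omega) hk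
    omega
  · have hodd : Odd q := w.prime.odd_of_ne_two hq2
    obtain ⟨m, hm⟩ := hk
    rcases Nat.lt_or_ge m 2 with hm2 | hm2
    · interval_cases m
      · omega
      · rw [mul_one] at hm
        have hpo : Odd p := S.prime.odd_of_ne_two (by omega)
        obtain ⟨i, hi⟩ := hpo
        obtain ⟨j, hj⟩ := hodd
        omega
    · nlinarith

include hG S in
/-- `M ∩ L` lies in the kernel of `M`. -/
theorem Supported.inf_le_kernel
    (hfrob : ∀ h ∈ fittingHallOf M, h ≠ 1 → M ⊓ centralizer ({h} : Set G) ≤ fittingHallOf M) :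
    M ⊓ L ≤ fittingHallOf M := by
  intro c hc
  by_contra hcK
  obtain ⟨r, hr, hrK, k, hk⟩ := exists_pow_prime_order
    (CfsgLib.OddOrder.le_normalizer_fittingHallOf M) (CfsgLib.OddOrder.coprime_fittingHallOf M)
    hc.1 hcK
  haveI := Fact.mk hr
  set u := c ^ k with hu
  have huML : u ∈ M ⊓ L := pow_mem hc k
  have hu1 : u ≠ 1 := fun e => hr.ne_one (by rw [← hk, e, orderOf_one])
  have huK : u ∉ fittingHallOf M := fun h => hrK (hk ▸ Subgroup.orderOf_dvd_natCard _ h)
  have hfpf : ∀ e ∈ zpowers u, e ≠ 1 → ∀ a ∈ A, e * a = a * e → a = 1 := by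
    intro e he he1 a ha hea
    by_contra ha1
    have heK : e ∈ fittingHallOf M := hfrob a (S.A_le_kernel ha) ha1
      ⟨(zpowers_le.mpr huML.1) he, mem_centralizer_singleton_iff.mpr hea⟩
    exact he1 (orderOf_eq_one_iff.mp (Nat.eq_one_of_dvd_coprimes
      ((hr.coprime_iff_not_dvd).mpr hrK)
      (hk ▸ Nat.card_zpowers u ▸ Subgroup.orderOf_dvd_natCard _ he)
      (Subgroup.orderOf_dvd_natCard _ heK)))
  have hrA : r ≠ p := fun e => hrK (e ▸ S.p_dvd_kernel)
  have hAn : ∀ e ∈ zpowers u, ∀ a ∈ A, e * a * e⁻¹ ∈ A := fun e he a ha =>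
    (mem_normalizer_iff.mp (S.A_normal ((zpowers_le.mpr huML) he)) a).mp ha
  have hX : A ⊔ zpowers u ≤ M ⊓ L := sup_le S.A_le (zpowers_le.mpr huML)
  have hcop : Nat.Coprime (Nat.card (fittingHallOf L)) (Nat.card ↥(A ⊔ zpowers u)) :=
    ((CfsgLib.OddOrder.coprime_of_disjoint_fittingHallOf (M := L) (U := M ⊓ L) inf_le_right
      S.compl.2.2.1).coprime_dvd_left (card_dvd_of_le hX)).symm
  have hform := card_centralizer_formula (U := A) (E := zpowers u)
    (fun e => hu1 (by simpa [e] using mem_zpowers u)) hAn hfpf (fittingHallOf L)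
    (hX.trans (inf_le_right.trans (CfsgLib.OddOrder.le_normalizer_fittingHallOf L)))
    (CfsgLib.OddOrder.minSimple_solvable hG (fun e => S.L_max.1 (top_le_iff.mp
      (e ▸ CfsgLib.OddOrder.fittingHallOf_le L)))) hcop
  have hbot : fittingHallOf L ⊓ centralizer ((A ⊔ zpowers u : Subgroup G) : Set G) = ⊥ :=
    le_bot_iff.mp ((inf_le_inf_left _ (centralizer_le (SetLike.coe_subset_coe.mpr le_sup_left))).trans
      S.A_free.le)
  rw [hbot, S.A_free, card_bot, one_pow, one_mul, mul_one, centralizer_zpowers] at hform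
  obtain ⟨h, hh, hh1⟩ := (bot_or_exists_ne_one
    (fittingHallOf L ⊓ centralizer ({u} : Set G))).resolve_left fun e => by
      rw [e, card_bot, one_pow, card_eq_one] at hform
      obtain ⟨a, -, -, hfix⟩ := S.fixer
      obtain ⟨h, hh, hh1, -⟩ := hfix
      exact hh1 (mem_bot.mp (hform ▸ hh))
  obtain ⟨W, hWc, -, hWmem⟩ := exists_abelian_section S.L_typeI
  have hcard : Nat.card (fittingHallOf L) = Nat.card (fittingHall L) := CfsgLib.Base.card_map_subtype _
  have huW : (⟨u, huML.2⟩ : L) ∈ W := by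
    have hrH : ¬ r ∣ Nat.card (fittingHall L) := fun hd => hr.not_dvd_one
      (((CfsgLib.OddOrder.coprime_of_disjoint_fittingHallOf (M := L) (U := M ⊓ L) inf_le_right
        S.compl.2.2.1).symm) ▸ Nat.dvd_gcd (hcard ▸ hd) (hk ▸ Subgroup.orderOf_dvd_natCard _ huML))
    obtain ⟨h', hh', e⟩ := hh.1
    refine hWmem r ⟨u, huML.2⟩ hr (by rw [Subgroup.orderOf_mk, hk]) hrH ⟨h', hh', fun e' => hh1 ?_, ?_⟩
    · rw [← e, e', map_one]
    · refine Subtype.ext ?_
      show u * (h' : G) = h' * u
      have h2 : (h' : G) = h := e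
      rw [h2]
      exact (mem_centralizer_singleton_iff.mp hh.2).symm
  obtain ⟨a, ha, ha1, h₀, hh₀, hh₀1, hah⟩ := S.fixer
  have haW : (⟨a, (S.A_le ha).2⟩ : L) ∈ W := by
    obtain ⟨h', hh', e⟩ := hh₀
    refine hWmem p ⟨a, (S.A_le ha).2⟩ S.prime
      (by rw [Subgroup.orderOf_mk]; haveI := Fact.mk S.prime; exact orderOf_eq_prime (S.A_elem.2 a ha) ha1)
      (hcard ▸ S.not_dvd) ⟨h', hh', fun e' => hh₀1 (by rw [← e, e', map_one]), ?_⟩
    refine Subtype.ext ?_
    show a * (h' : G) = h' * a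
    have h2 : (h' : G) = h₀ := e
    rw [h2]
    exact hah
  have hcomm : u * a * u⁻¹ * a⁻¹ ∈ fittingHallOf L ⊓ (M ⊓ L) :=
    ⟨⟨_, hWc _ huW _ haW, rfl⟩, (M ⊓ L).mul_mem ((M ⊓ L).mul_mem ((M ⊓ L).mul_mem huML (S.A_le ha))
      ((M ⊓ L).inv_mem huML)) ((M ⊓ L).inv_mem (S.A_le ha))⟩
  rw [S.compl.2.2.1, mem_bot, mul_inv_eq_one, mul_inv_eq_iff_eq_mul] at hcomm
  exact ha1 (hfpf u (mem_zpowers u) hu1 a ha hcomm)

include hG S in
/-- The index of the kernel of `M` divides `p² - 1` and is less than `p`. -/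
theorem Supported.index_lt
    (hfrob : ∀ h ∈ fittingHallOf M, h ≠ 1 → M ⊓ centralizer ({h} : Set G) ≤ fittingHallOf M) :
    (fittingHallOf M).relIndex M ∣ p ^ 2 - 1 ∧ (fittingHallOf M).relIndex M < p := by
  classical
  haveI := Fact.mk S.prime
  haveI := Fintype.ofFinite G
  set K := fittingHallOf M with hKdef
  set f := K.relIndex M with hf
  set Z := omegaCenter K p with hZ
  have hKM : K ≤ M := CfsgLib.OddOrder.fittingHallOf_le M
  have hnK : M ≤ normalizer (K : Set G) := CfsgLib.OddOrder.le_normalizer_fittingHallOf M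
  haveI := Fintype.ofFinite M
  have hdZ : f ∣ Nat.card Z - 1 := by
    have hcl : ∀ x ∈ (Finset.univ.filter fun x : M => (x : G) ∈ Z ∧ x ≠ 1),
        (centralizer ({x} : Set M)).index = f := by
      intro x hx
      obtain ⟨-, hxZ, hx1⟩ := Finset.mem_filter.mp hx
      have he : centralizer ({x} : Set M) = K.subgroupOf M := by
        ext c
        rw [mem_centralizer_singleton_iff, mem_subgroupOf]
        refine ⟨fun h => hfrob x hxZ.1 (fun e => hx1 (Subtype.ext e))
          ⟨c.2, mem_centralizer_singleton_iff.mpr (congrArg Subtype.val h)⟩,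
          fun h => Subtype.ext ?_⟩
        show (c : G) * x = x * c
        exact hxZ.2.2 c h
      rw [he, hf, relIndex]
    have h := CfsgLib.CharsMore.dvd_card_of_class_size _ (fun x hx g => by
      obtain ⟨-, hxZ, hx1⟩ := Finset.mem_filter.mp hx
      exact Finset.mem_filter.mpr ⟨Finset.mem_univ _, omegaCenter_normalized (hnK g.2) hxZ,
        fun e => hx1 (conj_eq_one_iff.mp e)⟩) f hcl
    convert h using 1
    have hb : (Finset.univ.filter fun x : M => (x : G) ∈ Z) =
        insert 1 (Finset.univ.filter fun x : M => (x : G) ∈ Z ∧ x ≠ 1) := by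
      ext x
      simp only [Finset.mem_filter, Finset.mem_univ, true_and, Finset.mem_insert]
      by_cases hx : x = 1
      · simp [hx, one_mem]
      · simp [hx]
    have hcardZ : Nat.card Z = (Finset.univ.filter fun x : M => (x : G) ∈ Z).card := by
      rw [← Fintype.card_subtype, ← Nat.card_eq_fintype_card]
      exact Nat.card_congr
        { toFun := fun z => ⟨⟨z, hKM z.2.1⟩, z.2⟩
          invFun := fun z => ⟨z.1, z.2⟩
          left_inv := fun z => rfl
          right_inv := fun z => rfl }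
    rw [hcardZ, hb, Finset.card_insert_of_notMem (by simp), Nat.add_sub_cancel]
  have hpM : p ∣ Nat.card M := S.p_dvd_kernel.trans (card_dvd_of_le hKM)
  have hoddf : Odd f := (CfsgLib.OddOrder.minSimple_odd hG).of_dvd_nat
    ((relIndex_dvd_card K M).trans (card_subgroup_dvd_card M))
  have hp1 : 1 < p := S.prime.one_lt
  rcases S.omega_card with e | e <;> rw [← hKdef, ← hZ] at e <;> rw [e] at hdZ
  · refine ⟨hdZ.trans ?_, lt_of_le_of_lt (Nat.le_of_dvd (by omega) hdZ) (by omega)⟩
    rw [show p ^ 2 - 1 = (p + 1) * (p - 1) by rw [← Nat.sq_sub_sq p 1, one_pow]]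
    exact dvd_mul_left _ _
  · refine ⟨hdZ, ?_⟩
    have hAZ : A = Z := (eq_of_le_of_card_ge S.omega_le (by rw [← hKdef, ← hZ, e, S.A_card])).symm
    obtain ⟨a, ha, ha1, hfix⟩ := S.fixer
    obtain ⟨hC, huniq, -⟩ := S.local_data a ha ha1 hfix
    have hord : orderOf a = p := orderOf_eq_prime (S.A_elem.2 a ha) ha1
    have hnormL : normalizer (L : Set G) = L := by
      haveI := CfsgLib.OddOrder.minSimple_isSimple hG
      refine (S.L_max.le_iff.mp L.le_normalizer).resolve_left
        (CfsgLib.OddOrder.minSimple_normalizer_ne_top hG (fun e' => ha1 ?_) S.L_max.1)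
      exact mem_bot.mp (e' ▸ (S.A_le ha).2)
    have hstab : ∀ m ∈ M, m * a * m⁻¹ ∈ zpowers a → m ∈ K := by
      intro m hm hma
      refine S.inf_le_kernel hG hfrob ⟨hm, ?_⟩
      have hlt : centralizer ({a} : Set G) ≤ L.map (MulAut.conj m⁻¹).toMonoidHom := by
        intro c hc
        refine ⟨m * c * m⁻¹, hC (mem_centralizer_singleton_iff.mpr ?_), by simp [mul_assoc]⟩
        have hc' : Commute c a := mem_centralizer_singleton_iff.mp hc
        have hcm : Commute (m * c * m⁻¹) (m * a * m⁻¹) := by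
          show m * c * m⁻¹ * (m * a * m⁻¹) = m * a * m⁻¹ * (m * c * m⁻¹)
          calc m * c * m⁻¹ * (m * a * m⁻¹) = m * (c * a) * m⁻¹ := by group
            _ = m * (a * c) * m⁻¹ := by rw [hc'.eq]
            _ = _ := by group
        have hgen : a ∈ zpowers (m * a * m⁻¹) := by
          have hle : zpowers (m * a * m⁻¹) ≤ zpowers a := zpowers_le.mpr hma
          have hcard : Nat.card (zpowers a) ≤ Nat.card (zpowers (m * a * m⁻¹)) := by
            rw [Nat.card_zpowers, Nat.card_zpowers]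
            exact le_of_eq ((MulAut.conj m).orderOf_eq a).symm
          rw [eq_of_le_of_card_ge hle hcard]
          exact mem_zpowers a
        obtain ⟨i, hi⟩ := mem_zpowers_iff.mp hgen
        exact hi ▸ (hcm.zpow_right i).eq
      have heq := huniq _ ((isCoatom_map_iff _ L).mpr S.L_max) hlt
      have hmn : m⁻¹ ∈ normalizer (L : Set G) := mem_normalizer_iff_map_conj_eq.mpr heq
      rw [hnormL] at hmn
      exact inv_inv m ▸ L.inv_mem hmn
    have hcount : f * (p - 1) ≤ Nat.card A - 1 := by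
      haveI : (K.subgroupOf M).Normal := normal_subgroupOf_of_le_normalizer hnK
      let T := {x : A // x ≠ 1}
      have hTc : Nat.card T = Nat.card A - 1 := by
        haveI := Fintype.ofFinite A
        rw [Nat.card_eq_fintype_card, Nat.card_eq_fintype_card, Fintype.card_subtype_compl,
          Fintype.card_subtype_eq]
      have hAm : ∀ m : M, ∀ k : ℕ, (m : G) * a ^ k * (m : G)⁻¹ ∈ A := fun m k => by
        rw [hAZ]
        refine omegaCenter_normalized (hnK m.2) ?_
        rw [← hZ, ← hAZ]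
        exact pow_mem ha k
      let φ : (M ⧸ K.subgroupOf M) × Fin (p - 1) → T := fun x =>
        ⟨⟨((x.1.out : M) : G) * a ^ (x.2.val + 1) * ((x.1.out : M) : G)⁻¹, hAm _ _⟩, fun e' => by
          have h0 : a ^ (x.2.val + 1) = 1 := conj_eq_one_iff.mp (congrArg Subtype.val e')
          have := Nat.le_of_dvd (by omega) (hord ▸ orderOf_dvd_of_pow_eq_one h0)
          have := x.2.isLt
          omega⟩
      have hinj : Function.Injective φ := by
        rintro ⟨q₁, i⟩ ⟨q₂, j⟩ e'
        have e1 : ((q₁.out : M) : G) * a ^ (i.val + 1) * ((q₁.out : M) : G)⁻¹ =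
            ((q₂.out : M) : G) * a ^ (j.val + 1) * ((q₂.out : M) : G)⁻¹ :=
          congrArg (fun t : T => ((t.1 : A) : G)) e'
        set m := ((q₂.out : M) : G)⁻¹ * ((q₁.out : M) : G) with hm
        have e2 : m * a ^ (i.val + 1) * m⁻¹ = a ^ (j.val + 1) := by
          calc m * a ^ (i.val + 1) * m⁻¹ = ((q₂.out : M) : G)⁻¹ *
                (((q₁.out : M) : G) * a ^ (i.val + 1) * ((q₁.out : M) : G)⁻¹) * ((q₂.out : M) : G) := by
                rw [hm]; group
            _ = _ := by rw [e1]; group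
        have hmK : m ∈ K := by
          refine hstab m (M.mul_mem (M.inv_mem q₂.out.2) q₁.out.2) ?_
          have hco : (i.val + 1).Coprime (orderOf a) := by
            rw [hord]
            exact (S.prime.coprime_iff_not_dvd.mpr fun hd => by
              have := Nat.le_of_dvd (by omega) hd
              have := i.isLt
              omega).symm
          obtain ⟨l, hl⟩ := exists_pow_eq_self_of_coprime hco
          conv in m * a * m⁻¹ => rw [← hl]
          rw [← conj_pow, e2]
          exact pow_mem (pow_mem (mem_zpowers a) _) _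
        have hq : q₁ = q₂ := by
          rw [← q₁.out_eq', ← q₂.out_eq']
          refine (QuotientGroup.eq.mpr ?_).symm
          rw [mem_subgroupOf]
          exact hmK
        subst hq
        have hij : a ^ (i.val + 1) = a ^ (j.val + 1) := by
          have := hm.trans (inv_mul_cancel _)
          rw [this] at e2
          simpa using e2
        have := pow_eq_pow_iff_modEq.mp hij
        have hi := i.isLt
        have hj := j.isLt
        rw [hord, Nat.ModEq, Nat.mod_eq_of_lt (show i.val + 1 < p by omega),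
          Nat.mod_eq_of_lt (show j.val + 1 < p by omega)] at this
        exact Prod.ext rfl (Fin.ext (show i.val = j.val by omega))
      have h := Nat.card_le_card_of_injective φ hinj
      rwa [Nat.card_prod, Nat.card_fin, hTc, ← index_eq_card, ← relIndex, ← hf] at h
    rw [S.A_card, show p ^ 2 - 1 = (p + 1) * (p - 1) by rw [← Nat.sq_sub_sq p 1, one_pow]] at hcount
    have hle : f ≤ p + 1 := Nat.le_of_mul_le_mul_right hcount (by omega)
    have hfp : f ≠ p := fun e' => by
      have h1 := CfsgLib.OddOrder.coprime_fittingHallOf M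
      rw [← hKdef, ← hf, e'] at h1
      exact S.prime.not_dvd_one (h1 ▸ Nat.dvd_gcd S.p_dvd_kernel dvd_rfl)
    have hpodd : Odd p := (CfsgLib.OddOrder.minSimple_odd hG).of_dvd_nat
      (hpM.trans (card_subgroup_dvd_card M))
    obtain ⟨i, hi⟩ := hpodd
    obtain ⟨j, hj⟩ := hoddf
    omega

include hG S in
/-- Some element of `A` fixes an element outside `H'`. -/
theorem Supported.exists_fixer_outside :
    ∃ a ∈ A, a ≠ 1 ∧ ∃ h ∈ fittingHallOf L, h ∉ ⁅fittingHallOf L, fittingHallOf L⁆ ∧
      a * h = h * a := by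
  haveI := Fact.mk S.prime
  set H := fittingHallOf L
  obtain ⟨a, ha, ha1, h, hh, hh1, -⟩ := S.fixer
  haveI : Nontrivial A := ⟨⟨a, ha⟩, 1, fun e => ha1 (congrArg Subtype.val e)⟩
  obtain ⟨b, hb, hba⟩ : ∃ b ∈ A, b ∉ zpowers a := by
    by_contra hcon
    push Not at hcon
    have := card_le_of_le hcon
    rw [S.A_card, Nat.card_zpowers, orderOf_eq_prime (S.A_elem.2 a ha) ha1] at this
    nlinarith [S.prime.two_le]
  have hsol : Group.IsSolvable H := CfsgLib.OddOrder.minSimple_solvable hG
    (fun e => S.L_max.1 (top_le_iff.mp (e ▸ CfsgLib.OddOrder.fittingHallOf_le L)))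
  have hlt : ⁅H, H⁆ < H := Base.commutator_self_lt_of_isSolvable
    (fun e => hh1 (mem_bot.mp (e ▸ hh))) hsol
  have hnH : L ≤ normalizer (H : Set G) := CfsgLib.OddOrder.le_normalizer_fittingHallOf L
  have hnD : normalizer (H : Set G) ≤ normalizer ((⁅H, H⁆ : Subgroup G) : Set G) := fun x hx => by
    rw [mem_normalizer_iff_map_conj_eq] at hx ⊢
    rw [map_commutator, hx]
  have hab : Commute a b := congrArg Subtype.val (S.A_elem.1.is_comm.comm ⟨a, ha⟩ ⟨b, hb⟩)
  obtain ⟨z, hz, hz1, v, hv, hvD, hzv⟩ := CfsgLib.OddOrder.exists_centralized_not_mem H ⁅H, H⁆ hlt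
    (H.le_normalizer.trans hnD) hsol ((S.prime.coprime_iff_not_dvd.mpr S.not_dvd).symm) hab
    (S.A_elem.2 a ha) (S.A_elem.2 b hb) ha1 hba (hnH (S.A_le ha).2) (hnH (S.A_le hb).2)
    (hnD (hnH (S.A_le ha).2)) (hnD (hnH (S.A_le hb).2))
  refine ⟨z, ?_, hz1, v, hv, hvD, hzv.eq⟩
  exact (closure_le A).mpr (by rintro w (rfl | rfl) <;> assumption) hz

end CfsgLib.FT.TypeOne
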